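import Cfsg.Agent.Lib.AltDouble.Defs
import Cfsg.Agent.Lib.CharTheory.AltPresented

/-!
# Involutions in the double covers of the alternating groups

Lifts of double transpositions square to the central involution, lifts of disjoint even permutations
commute; so an involution of the cover lies over a product of a multiple of four transpositions.
-/

set_option autoImplicit false
set_option linter.unusedSectionVars false
set_option linter.style.haveILetI false

namespace Cfsg.Agent.AltDouble

open Subgroup Equiv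

universe u

/-- A nonsplit double cover in the sense of the statement gives the data used here. -/
theorem exists_isAltCover {H : Type u} [Group H] [Finite H] {n : ℕ} (hn : 5 ≤ n)
    (h : Cfsg.IsNonsplitDoubleCover H (alternatingGroup (Fin n))) (z : H) (hz : orderOf z = 2)
    (hzc : z ∈ center H) : ∃ π : H →* Perm (Fin n), IsAltCover π z := by
  obtain ⟨h2, ⟨e⟩, hns⟩ := h
  have hcen : center H = zpowers z := (eq_of_le_of_card_ge (zpowers_le.2 hzc)
    (by rw [h2, Nat.card_zpowers, hz])).symm
  refine ⟨((alternatingGroup (Fin n)).subtype.comp e.toMonoidHom).comp (QuotientGroup.mk' (center H)),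
    ?_, ?_, hcen, hz, hns⟩
  · rw [MonoidHom.range_eq_map, ← map_map, map_top_of_surjective _ (QuotientGroup.mk'_surjective _),
      ← map_map, map_top_of_surjective _ e.surjective, ← MonoidHom.range_eq_map, range_subtype]
  · have hi : Function.Injective ((alternatingGroup (Fin n)).subtype.comp e.toMonoidHom) :=
      fun a b hab => e.injective ((alternatingGroup (Fin n)).subtype_injective hab)
    rw [MonoidHom.ker_comp_of_injective _ _ hi, QuotientGroup.ker_mk', hcen]

/-- An even involution starts with two disjoint transpositions. -/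
theorem exists_double {α : Type*} [Fintype α] [DecidableEq α] {σ : Perm α} (h2 : σ * σ = 1)
    (hev : Perm.sign σ = 1) (hne : σ ≠ 1) :
    ∃ a b c d : α, ∃ τ : Perm α, [a, b, c, d].Nodup ∧ σ = swap a b * swap c d * τ ∧
      τ * τ = 1 ∧ Perm.sign τ = 1 ∧ τ a = a ∧ τ b = b ∧ τ c = c ∧ τ d = d ∧
      τ.support.card + 4 = σ.support.card := by
  have hi : ∀ i, σ (σ i) = i := fun i => by rw [← Perm.mul_apply, h2, Perm.one_apply]
  obtain ⟨a, ha⟩ : ∃ a, σ a ≠ a := by
    by_contra hall
    push Not at hall
    exact hne (Equiv.ext hall)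
  set b := σ a with hb
  obtain ⟨c, hca, hcb, hc⟩ : ∃ c, c ≠ a ∧ c ≠ b ∧ σ c ≠ c := by
    by_contra hall
    push Not at hall
    have e : σ = swap a b := by
      ext i
      rcases eq_or_ne i a with rfl | hia
      · rw [swap_apply_left]
      rcases eq_or_ne i b with rfl | hib
      · rw [swap_apply_right, hb, hi]
      · rw [swap_apply_of_ne_of_ne hia hib, hall i hia hib]
    rw [e, Perm.sign_swap ha.symm] at hev
    exact absurd hev (by decide)
  set d := σ c with hd
  have hda : d ≠ a := fun e => hcb (by rw [hb, ← e, hd, hi])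
  have hdb : d ≠ b := fun e => hca (σ.injective (by rw [← hb, ← hd, e]))
  have hnd : [a, b, c, d].Nodup := by
    simp [ha.symm, hc.symm, hca.symm, hcb.symm, hda.symm, hdb.symm]
  let τ : Perm α := swap c d * swap a b * σ
  have hτ : ∀ i, τ i = if i = a ∨ i = b ∨ i = c ∨ i = d then i else σ i := by
    intro i
    show swap c d (swap a b (σ i)) = _
    split_ifs with h
    · rcases h with rfl | rfl | rfl | rfl
      · rw [← hb, swap_apply_right, swap_apply_of_ne_of_ne hca.symm hda.symm]
      · rw [hb, hi, swap_apply_left, ← hb, swap_apply_of_ne_of_ne hcb.symm hdb.symm]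
      · rw [← hd, swap_apply_of_ne_of_ne hda hdb, swap_apply_right]
      · rw [hd, hi, swap_apply_of_ne_of_ne hca hcb, swap_apply_left]
    · push Not at h
      obtain ⟨h1, h2', h3, h4⟩ := h
      have k1 : σ i ≠ a := fun e => h2' (by rw [hb, ← e, hi])
      have k2 : σ i ≠ b := fun e => h1 (σ.injective (by rw [e]))
      have k3 : σ i ≠ c := fun e => h4 (by rw [hd, ← e, hi])
      have k4 : σ i ≠ d := fun e => h3 (σ.injective (by rw [e]))
      rw [swap_apply_of_ne_of_ne k1 k2, swap_apply_of_ne_of_ne k3 k4]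
  refine ⟨a, b, c, d, τ, hnd, ?_, ?_, ?_, ?_, ?_, ?_, ?_, ?_⟩
  · show σ = swap a b * swap c d * (swap c d * swap a b * σ)
    rw [mul_assoc (swap a b), ← mul_assoc (swap c d), ← mul_assoc (swap c d), swap_mul_self, one_mul,
      ← mul_assoc, swap_mul_self, one_mul]
  · ext i
    rw [Perm.mul_apply, Perm.one_apply, hτ (τ i)]
    by_cases h : i = a ∨ i = b ∨ i = c ∨ i = d
    · rw [hτ i, if_pos h, if_pos h]
    · rw [hτ i, if_neg h]
      have h' : ¬ (σ i = a ∨ σ i = b ∨ σ i = c ∨ σ i = d) := by
        rintro (e | e | e | e) <;> apply h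
        · exact Or.inr (Or.inl (by rw [hb, ← e, hi]))
        · exact Or.inl (σ.injective (by rw [e]))
        · exact Or.inr (Or.inr (Or.inr (by rw [hd, ← e, hi])))
        · exact Or.inr (Or.inr (Or.inl (σ.injective (by rw [e]))))
      rw [if_neg h', hi]
  · show Perm.sign (swap c d * swap a b * σ) = 1
    rw [map_mul, map_mul, Perm.sign_swap hc.symm, Perm.sign_swap ha.symm, hev]
    decide
  · rw [hτ, if_pos (Or.inl rfl)]
  · rw [hτ, if_pos (Or.inr (Or.inl rfl))]
  · rw [hτ, if_pos (Or.inr (Or.inr (Or.inl rfl)))]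
  · rw [hτ, if_pos (Or.inr (Or.inr (Or.inr rfl)))]
  · have he : σ.support = τ.support ∪ [a, b, c, d].toFinset := by
      ext i
      simp only [Perm.mem_support, Finset.mem_union, List.mem_toFinset, List.mem_cons,
        List.not_mem_nil, or_false]
      rw [hτ i]
      split_ifs with h
      · refine iff_of_true ?_ (Or.inr h)
        rcases h with rfl | rfl | rfl | rfl
        · exact ha
        · rw [hb, hi]; exact ha.symm
        · exact hc
        · rw [hd, hi]; exact hc.symm
      · simp [h]
    rw [he, Finset.card_union_of_disjoint, List.toFinset_card_of_nodup hnd]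
    · rfl
    · refine Finset.disjoint_left.2 fun i hi' hl => ?_
      rw [Perm.mem_support, hτ i, if_pos (by simpa using hl)] at hi'
      exact hi' rfl

/-- A product of two transpositions is disjoint from a permutation fixing the four points. -/
theorem double_disjoint {α : Type*} [DecidableEq α] {a b c d : α} {τ : Perm α}
    (ha : τ a = a) (hb : τ b = b) (hc : τ c = c) (hd : τ d = d) :
    (swap a b * swap c d).Disjoint τ := fun i => by
  by_cases h : i = a ∨ i = b ∨ i = c ∨ i = d
  · right; rcases h with rfl | rfl | rfl | rfl <;> assumption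
  · push Not at h
    obtain ⟨h1, h2, h3, h4⟩ := h
    left
    rw [Perm.mul_apply, swap_apply_of_ne_of_ne h3 h4, swap_apply_of_ne_of_ne h1 h2]

theorem sign_double {α : Type*} [Fintype α] [DecidableEq α] {a b c d : α} (h : [a, b, c, d].Nodup) :
    Perm.sign (swap a b * swap c d) = 1 := by
  have hab : a ≠ b := by intro e; simp [e] at h
  have hcd : c ≠ d := by intro e; simp [e] at h
  rw [map_mul, Perm.sign_swap hab, Perm.sign_swap hcd]
  decide

/-- Two double transpositions are conjugate by an even permutation. -/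
theorem exists_conj_double {α : Type*} [Fintype α] [DecidableEq α] {a b c d a' b' c' d' : α}
    (h : [a, b, c, d].Nodup) (h' : [a', b', c', d'].Nodup) :
    ∃ g : Perm α, Perm.sign g = 1 ∧
      g * (swap a b * swap c d) * g⁻¹ = swap a' b' * swap c' d' := by
  let f : Fin 4 ↪ α := ⟨fun i => [a, b, c, d].get (i.cast rfl),
    (List.nodup_iff_injective_get.1 h).comp (Fin.cast_injective _)⟩
  let f' : Fin 4 ↪ α := ⟨fun i => [a', b', c', d'].get (i.cast rfl),
    (List.nodup_iff_injective_get.1 h').comp (Fin.cast_injective _)⟩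
  haveI := Equiv.Perm.isMultiplyPretransitive α 4
  obtain ⟨g, hg⟩ := MulAction.exists_smul_eq (Perm α) f f'
  have hgi : ∀ i, g (f i) = f' i := fun i => by rw [← hg]; rfl
  have ha : g a = a' := hgi 0
  have hb : g b = b' := hgi 1
  have hc : g c = c' := hgi 2
  have hd : g d = d' := hgi 3
  have hconj : g * (swap a b * swap c d) * g⁻¹ = swap a' b' * swap c' d' := by
    rw [← ha, ← hb, ← hc, ← hd, swap_apply_apply, swap_apply_apply]
    group
  rcases Int.units_eq_one_or (Perm.sign g) with hs | hs
  · exact ⟨g, hs, hconj⟩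
  · have hab : a ≠ b := by intro e; simp [e] at h
    refine ⟨g * swap a b, by rw [map_mul, Perm.sign_swap hab, hs]; decide, ?_⟩
    have hcomm : Commute (swap a b) (swap c d) :=
      (Perm.disjoint_swap_swap h).commute
    rw [← hconj, mul_inv_rev, Equiv.swap_inv,
      show g * swap a b * (swap a b * swap c d) * (swap a b * g⁻¹) =
        g * ((swap a b * swap a b) * (swap c d * swap a b)) * g⁻¹ by group,
      swap_mul_self, one_mul, hcomm.eq]

variable {H : Type u} [Group H] [Finite H] {n : ℕ} {π : H →* Perm (Fin n)} {z : H}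
  (hc : IsAltCover π z)
include hc

theorem z_sq : z * z = 1 := by
  rw [← sq, ← hc.order, pow_orderOf_eq_one]

theorem z_comm (x : H) : Commute x z :=
  mem_center_iff.1 (hc.center_eq ▸ mem_zpowers z) x

theorem map_z : π z = 1 := MonoidHom.mem_ker.1 (hc.ker ▸ mem_zpowers z)

theorem z_ne : z ≠ 1 := fun h => by
  have := hc.order
  rw [h, orderOf_one] at this
  omega

theorem eq_or_of_map {x y : H} (h : π x = π y) : x = y ∨ x = y * z := by
  have hm : y⁻¹ * x ∈ zpowers z :=
    hc.ker ▸ MonoidHom.mem_ker.2 (by rw [map_mul, map_inv, h, inv_mul_cancel])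
  obtain ⟨k, hk⟩ := mem_zpowers_iff.1 hm
  rcases Int.even_or_odd k with ⟨j, rfl⟩ | ⟨j, rfl⟩
  · left
    rw [← two_mul, zpow_mul, zpow_two, z_sq hc, one_zpow] at hk
    exact (inv_mul_eq_one.1 hk.symm).symm
  · right
    rw [zpow_add, zpow_mul, zpow_two, z_sq hc, one_zpow, one_mul, zpow_one] at hk
    rw [hk, mul_inv_cancel_left]

theorem eq_or_of_map_one {x : H} (h : π x = 1) : x = 1 ∨ x = z := by
  simpa using eq_or_of_map hc (y := 1) (h.trans π.map_one.symm)

theorem exists_lift {σ : Perm (Fin n)} (hσ : Perm.sign σ = 1) : ∃ x, π x = σ := by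
  rw [← MonoidHom.mem_range, hc.range, Perm.mem_alternatingGroup]
  exact hσ

theorem sign_map (x : H) : Perm.sign (π x) = 1 :=
  Perm.mem_alternatingGroup.1 (hc.range ▸ ⟨x, rfl⟩)

theorem sq_of_lift {x y : H} (h : π x = π y) : x * x = y * y := by
  rcases eq_or_of_map hc h with rfl | rfl
  · rfl
  · rw [mul_assoc, ← mul_assoc z, ← (z_comm hc y).eq, mul_assoc y z, z_sq hc, mul_one]

/-- The squares of all lifts of double transpositions agree. -/
theorem sq_double_const {x y : H} {a b c d a' b' c' d' : Fin n} (h : [a, b, c, d].Nodup)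
    (h' : [a', b', c', d'].Nodup) (hx : π x = swap a b * swap c d)
    (hy : π y = swap a' b' * swap c' d') : x * x = y * y := by
  obtain ⟨g, hg, hconj⟩ := exists_conj_double h h'
  obtain ⟨u, hu⟩ := exists_lift hc hg
  have he : π (u * x * u⁻¹) = π y := by rw [map_mul, map_mul, map_inv, hu, hx, hy, hconj]
  rw [← sq_of_lift hc he]
  have hxx : π (x * x) = 1 := by
    rw [map_mul, hx]
    have hcomm : Commute (swap a b) (swap c d) := (Perm.disjoint_swap_swap h).commute
    rw [← sq, hcomm.mul_pow, sq, sq, swap_mul_self, swap_mul_self, one_mul]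
  rw [show u * x * u⁻¹ * (u * x * u⁻¹) = u * (x * x) * u⁻¹ by group]
  rcases eq_or_of_map_one hc hxx with e | e <;> rw [e]
  · rw [mul_one, mul_inv_cancel]
  · rw [(z_comm hc u).eq, mul_inv_cancel_right]

theorem cube_adjust {w v : H} (h : (π w * π v) ^ 3 = 1) :
    ∃ v', π v' = π v ∧ (w * v') ^ 3 = 1 := by
  rcases eq_or_of_map_one hc (x := (w * v) ^ 3) (by rw [map_pow, map_mul, h]) with e | e
  · exact ⟨v, rfl, e⟩
  · refine ⟨v * z, by rw [map_mul, map_z hc, mul_one], ?_⟩
    rw [← mul_assoc, (z_comm hc (w * v)).mul_pow, e, pow_succ z, sq, z_sq hc, one_mul, z_sq hc]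

/-- A lift of a double transposition squares to the central involution. -/
theorem sq_double (hn : 5 ≤ n) {x : H} {a b c d : Fin n} (hd : [a, b, c, d].Nodup)
    (h : π x = swap a b * swap c d) : x * x = z := by
  classical
  obtain ⟨m, rfl⟩ : ∃ m, n = m + 2 := ⟨n - 2, by omega⟩
  have hx2 : π (x * x) = 1 := by
    have hcomm : Commute (swap a b) (swap c d) := (Perm.disjoint_swap_swap hd).commute
    rw [map_mul, h, ← sq, hcomm.mul_pow, sq, sq, swap_mul_self, swap_mul_self, one_mul]
  refine (eq_or_of_map_one hc hx2).resolve_left fun hx => ?_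
  open CharTheory.AltPresentation in
  · have hone : ∀ (y : H) (i j k l : ℕ), i < m + 2 → j < m + 2 → k < m + 2 → l < m + 2 →
        i ≠ j → i ≠ k → i ≠ l → j ≠ k → j ≠ l → k ≠ l →
        π y = swap (pt m i) (pt m j) * swap (pt m k) (pt m l) → y ^ 2 = 1 := by
      intro y i j k l hi hj hk hl n1 n2 n3 n4 n5 n6 hy
      rw [sq, ← sq_double_const hc hd ?_ h hy, hx]
      simp [pt_ne hi hj n1, pt_ne hi hk n2, pt_ne hi hl n3, pt_ne hj hk n4, pt_ne hj hl n5,
        pt_ne hk hl n6]
    have hsign : ∀ i, i < m → Perm.sign (gen m i) = 1 := fun i hi =>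
      Perm.mem_alternatingGroup.1 (closure_gen m ▸ subset_closure ⟨i, hi, rfl⟩)
    choose X hX using fun i : ℕ => show ∃ w : H, i < m → π w = gen m i from
      if hi : i < m then (exists_lift hc (hsign i hi)).imp fun w hw _ => hw
      else ⟨1, fun h' => absurd h' hi⟩
    have hnext : ∀ (i : ℕ) (w : H), ∃ v : H, i + 1 < m → π w = gen m i →
        π v = gen m (i + 1) ∧ (w * v) ^ 3 = 1 := by
      intro i w
      by_cases hi : i + 1 < m ∧ π w = gen m i
      · obtain ⟨v, hv, hv3⟩ := cube_adjust hc (w := w) (v := X (i + 1))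
          (by rw [hi.2, hX _ hi.1]; exact (gen_rels m).adj i hi.1)
        exact ⟨v, fun _ _ => ⟨hv.trans (hX _ hi.1), hv3⟩⟩
      · exact ⟨1, fun h1 h2 => absurd ⟨h1, h2⟩ hi⟩
    choose nx hnx using hnext
    obtain ⟨T₀, hT₀, hT₀3⟩ := cube_adjust hc (w := 1) (v := X 0) (by
      rw [map_one, one_mul, hX 0 (by omega)]; exact (gen_rels m).cube (by omega))
    rw [one_mul] at hT₀3
    let T : ℕ → H := fun i => Nat.rec T₀ nx i
    have hT : ∀ i, i < m → π (T i) = gen m i := by
      intro i
      induction i with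
      | zero => exact fun hi => hT₀.trans (hX 0 hi)
      | succ i ih => exact fun hi => (hnx i (T i) hi (ih (by omega))).1
    have hrels : Rels T m := by
      refine ⟨fun _ => hT₀3, fun i h1 hi => ?_, fun i hi => (hnx i (T i) hi (hT i (by omega))).2,
        fun i j hij hj => ?_⟩
      · exact hone _ 0 1 (i + 1) (i + 2) (by omega) (by omega) (by omega) (by omega) (by omega)
          (by omega) (by omega) (by omega) (by omega) (by omega) (hT i hi)
      · rcases Nat.eq_zero_or_pos i with rfl | h0
        · refine hone _ 0 2 (j + 1) (j + 2) (by omega) (by omega) (by omega) (by omega) (by omega)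
            (by omega) (by omega) (by omega) (by omega) (by omega) ?_
          rw [map_mul, hT 0 (by omega), hT j hj]
          show sw m 0 * sw m 1 * (sw m 0 * sw m (j + 1)) = _
          rw [← mul_assoc]
          congr 1
          show swap (pt m 0) (pt m 1) * swap (pt m 1) (pt m 2) * swap (pt m 0) (pt m 1) = _
          rw [swap_comm (pt m 0) (pt m 1), swap_comm (pt m 1) (pt m 2), swap_mul_swap_mul_swap]
          · exact pt_ne (by omega) (by omega) (by omega)
          · exact pt_ne (by omega) (by omega) (by omega)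
        · refine hone _ (i + 1) (i + 2) (j + 1) (j + 2) (by omega) (by omega) (by omega) (by omega)
            (by omega) (by omega) (by omega) (by omega) (by omega) (by omega) ?_
          rw [map_mul, hT i (by omega), hT j hj]
          show sw m 0 * sw m (i + 1) * (sw m 0 * sw m (j + 1)) = sw m (i + 1) * sw m (j + 1)
          rw [sw_far (by omega) (show 0 + 1 < i + 1 by omega), mul_assoc,
            ← mul_assoc (sw m 0) (sw m 0), sw_sq, one_mul]
    set L := closure (T '' Set.Iio m)
    have hm : 1 ≤ m := by omega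
    have hcard : 2 * Nat.card L ≤ (m + 2).factorial := (card_closure_le hrels m hm le_rfl).2
    have hmap : L.map π = alternatingGroup (Fin (m + 2)) := by
      rw [MonoidHom.map_closure, ← closure_gen m, ← Set.image_comp]
      congr 1
      exact Set.image_congr fun i hi => hT i hi
    haveI : Nontrivial (Fin (m + 2)) := Fin.nontrivial_iff_two_le.2 (by omega)
    have halt : 2 * Nat.card (alternatingGroup (Fin (m + 2))) = (m + 2).factorial := by
      rw [two_mul_nat_card_alternatingGroup, Nat.card_eq_fintype_card, Fintype.card_perm,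
        Fintype.card_fin]
    have hbij := (π.subgroupMap L)
    have hinj : Function.Injective (π.subgroupMap L) :=
      ((Nat.bijective_iff_surjective_and_card _).2 ⟨MonoidHom.subgroupMap_surjective π L,
        le_antisymm (by rw [hmap]; omega)
          (Nat.card_le_card_of_surjective _ (MonoidHom.subgroupMap_surjective π L))⟩).1
    refine hc.nonsplit L (isComplement'_of_card_mul_and_disjoint ?_ ?_)
    · have hiso := Nat.card_congr (MonoidHom.ofInjective hinj).toEquiv
      have h1 : Nat.card L = Nat.card (alternatingGroup (Fin (m + 2))) := by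
        rw [← hmap]
        exact le_antisymm (Nat.card_le_card_of_injective _ hinj)
          (Nat.card_le_card_of_surjective _ (MonoidHom.subgroupMap_surjective π L))
      have h2 : Nat.card H = π.ker.index * Nat.card π.ker := (π.ker.index_mul_card).symm
      rw [Subgroup.index_ker, hc.range, hc.ker] at h2
      rw [hc.center_eq, h2, h1, mul_comm]
    · rw [disjoint_iff, eq_bot_iff]
      rintro w ⟨hw, hwL⟩
      have h1 : (⟨w, hwL⟩ : L) = 1 := hinj (Subtype.ext (by
        show π w = π 1
        rw [map_one]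
        exact MonoidHom.mem_ker.1 (hc.ker ▸ hc.center_eq ▸ hw)))
      exact congrArg Subtype.val h1

/-- Lifts of disjoint even permutations commute. -/
theorem commute_of_disjoint {x y : H} (h : (π x).Disjoint (π y)) : Commute x y := by
  classical
  let p : Fin n → Prop := fun i => π y i = i
  let S : Subgroup H := centralizer {y}
  have hS : ∀ σ : Perm (Subtype p), σ.IsThreeCycle → Perm.ofSubtype σ ∈ S.map π := by
    intro σ hσ
    obtain ⟨w, hw⟩ := exists_lift hc (σ := Perm.ofSubtype σ)
      (by rw [Perm.sign_ofSubtype, hσ.sign])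
    refine ⟨w, mem_centralizer_singleton_iff.2 ?_, hw⟩
    have hd : (π w).Disjoint (π y) := fun i => by
      by_cases hi : p i
      · exact Or.inr hi
      · left; rw [hw]; exact Perm.ofSubtype_apply_of_not_mem σ hi
    have e : π (w * y * w⁻¹) = π y := by
      rw [map_mul, map_mul, map_inv, hd.commute.eq, mul_inv_cancel_right]
    rcases eq_or_of_map hc e with e | e
    · exact mul_inv_eq_iff_eq_mul.1 e
    · exfalso
      have h3 : π (w * w * w) = 1 := by
        rw [map_mul, map_mul, hw, ← map_mul, ← map_mul]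
        have h' : σ * σ * σ = 1 := by
          have h'' := pow_orderOf_eq_one σ
          rwa [hσ.orderOf, pow_succ, sq] at h''
        rw [h', map_one]
      have hcy : w * w * w * y * (w * w * w)⁻¹ = y := by
        rcases eq_or_of_map_one hc h3 with e3 | e3 <;> rw [e3]
        · simp
        · rw [(z_comm hc y).symm.eq, mul_inv_cancel_right]
      have hyz : w * w * w * y * (w * w * w)⁻¹ = y * z := by
        have hz' : ∀ v : H, w * (v * z) * w⁻¹ = w * v * w⁻¹ * z := fun v => by
          rw [← mul_assoc, mul_assoc (w * v), ← (z_comm hc w⁻¹).eq, ← mul_assoc]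
        rw [show w * w * w * y * (w * w * w)⁻¹ = w * (w * (w * y * w⁻¹) * w⁻¹) * w⁻¹ by group, e, hz', e,
          hz', hz', e, mul_assoc (y * z), z_sq hc, mul_one]
      exact z_ne hc (left_eq_mul.1 (hcy.symm.trans hyz))
  have hpx : ∀ i, p i ↔ p (π x i) := fun i => by
    show π y i = i ↔ π y (π x i) = π x i
    rcases h i with hi | hi
    · rw [hi]
    · refine iff_of_true hi ?_
      rw [← Perm.mul_apply, ← h.commute.eq, Perm.mul_apply, hi]
  set σ := Perm.subtypePerm (π x) (p := p) (fun i => (hpx i).symm) with hσ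
  have hof : Perm.ofSubtype σ = π x := Perm.ofSubtype_subtypePerm _ fun i hi => (h i).resolve_left hi
  have hmem : σ ∈ (S.map π).comap Perm.ofSubtype := by
    have hs : Perm.sign σ = 1 := by rw [← Perm.sign_ofSubtype, hof]; exact sign_map hc x
    have hle : alternatingGroup (Subtype p) ≤ (S.map π).comap Perm.ofSubtype := by
      rw [← Equiv.Perm.closure_three_cycles_eq_alternating, closure_le]
      exact hS
    exact hle (Perm.mem_alternatingGroup.2 hs)
  obtain ⟨w, hw, hwx⟩ := hmem
  rw [hof] at hwx
  have hwy : Commute w y := mem_centralizer_singleton_iff.1 hw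
  rcases eq_or_of_map hc hwx.symm with rfl | rfl
  · exact hwy
  · exact hwy.mul_left (z_comm hc y).symm

/-- The square of a lift of an even involution. -/
theorem sq_eq_z_pow (hn : 5 ≤ n) : ∀ {x : H}, π x * π x = 1 →
    4 ∣ (π x).support.card ∧ x * x = z ^ ((π x).support.card / 4) := by
  suffices key : ∀ (s : ℕ) (x : H), π x * π x = 1 → (π x).support.card = s →
      4 ∣ s ∧ x * x = z ^ (s / 4) from fun {x} hx => key _ x hx rfl
  intro s
  induction s using Nat.strong_induction_on with
  | _ s ih =>
    intro x hx hs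
    by_cases h1 : π x = 1
    · rw [h1, Perm.support_one, Finset.card_empty] at hs
      subst hs
      refine ⟨dvd_zero 4, ?_⟩
      rcases eq_or_of_map_one hc h1 with rfl | rfl <;> simp [z_sq hc]
    obtain ⟨a, b, c, d, τ, hd, he, hτ2, hτs, ha, hb, hc', hd', hcard⟩ :=
      exists_double hx (sign_map hc x) h1
    obtain ⟨u, hu⟩ := exists_lift hc (sign_double hd)
    obtain ⟨v, hv⟩ := exists_lift hc hτs
    obtain ⟨h4, hv2⟩ := ih τ.support.card (by omega) v (by rw [hv]; exact hτ2) (by rw [hv])
    have huv : Commute u v := commute_of_disjoint hc (by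
      rw [hu, hv]; exact double_disjoint ha hb hc' hd')
    refine ⟨by omega, ?_⟩
    rw [sq_of_lift hc (y := u * v) (by rw [map_mul, hu, hv]; exact he),
      show u * v * (u * v) = u * (v * u) * v by group, ← huv.eq,
      show u * (u * v) * v = u * u * (v * v) by group, sq_double hc hn hd hu, hv2, ← pow_succ',
      show s / 4 = τ.support.card / 4 + 1 by omega]

/-- A lift of an even involution is an involution exactly when its image moves a multiple of eight
points. -/
theorem sq_eq_one_iff (hn : 5 ≤ n) {x : H} (hx : π x * π x = 1) :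
    x * x = 1 ↔ 8 ∣ (π x).support.card := by
  obtain ⟨⟨k, hk⟩, h⟩ := sq_eq_z_pow hc hn hx
  rw [h, ← orderOf_dvd_iff_pow_eq_one, hc.order, hk, Nat.mul_div_cancel_left _ (by norm_num)]
  omega

/-- An involution over a nontrivial permutation is conjugate to its product with `z`. -/
theorem exists_conj_mul_z (hn : 5 ≤ n) {x : H} (hx : x * x = 1) (hx' : π x ≠ 1) :
    ∃ h, h * x * h⁻¹ = x * z := by
  have hx2 : π x * π x = 1 := by rw [← map_mul, hx, map_one]
  obtain ⟨a, b, c, d, τ, hd, he, hτ2, hτs, ha, hb, hc', hd', -⟩ :=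
    exists_double hx2 (sign_map hc x) hx'
  have hd2 : [a, c, b, d].Nodup := by
    simp only [List.nodup_cons, List.mem_cons, List.not_mem_nil, or_false, not_or,
      List.nodup_nil, and_true] at hd ⊢
    tauto
  obtain ⟨u, hu⟩ := exists_lift hc (sign_double hd)
  obtain ⟨v, hv⟩ := exists_lift hc (sign_double hd2)
  obtain ⟨w, hw⟩ := exists_lift hc hτs
  have hu2 := sq_double hc hn hd hu
  have hv2 := sq_double hc hn hd2 hv
  have hprod : π (u * v) = swap a d * swap b c := by
    rw [map_mul, hu, hv]
    simp only [List.nodup_cons, List.mem_cons, List.not_mem_nil, or_false, not_or,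
      List.nodup_nil, and_true] at hd
    obtain ⟨⟨nab, nac, nad⟩, ⟨nbc, nbd⟩, ncd⟩ :
        (a ≠ b ∧ a ≠ c ∧ a ≠ d) ∧ (b ≠ c ∧ b ≠ d) ∧ c ≠ d := by tauto
    refine Equiv.ext fun i => ?_
    simp only [Perm.mul_apply]
    by_cases ha' : i = a
    · subst ha'
      rw [swap_apply_of_ne_of_ne nab nad, swap_apply_left, swap_apply_left,
        swap_apply_of_ne_of_ne nad.symm nbd.symm, swap_apply_of_ne_of_ne nab nac, swap_apply_left]
    by_cases hb' : i = b
    · subst hb'
      rw [swap_apply_left, swap_apply_of_ne_of_ne nad.symm ncd.symm, swap_apply_right,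
        swap_apply_of_ne_of_ne nac.symm nbc.symm, swap_apply_left,
        swap_apply_of_ne_of_ne nac.symm ncd]
    by_cases hc' : i = c
    · subst hc'
      rw [swap_apply_of_ne_of_ne nbc.symm ncd, swap_apply_right,
        swap_apply_of_ne_of_ne nac nad, swap_apply_left, swap_apply_right,
        swap_apply_of_ne_of_ne nab.symm nbd]
    by_cases hd'' : i = d
    · subst hd''
      rw [swap_apply_right, swap_apply_of_ne_of_ne nab.symm nbc, swap_apply_of_ne_of_ne nbc nbd,
        swap_apply_right, swap_apply_of_ne_of_ne nbd.symm ncd.symm, swap_apply_right]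
    rw [swap_apply_of_ne_of_ne hb' hd'', swap_apply_of_ne_of_ne ha' hc',
      swap_apply_of_ne_of_ne hc' hd'', swap_apply_of_ne_of_ne ha' hb',
      swap_apply_of_ne_of_ne hb' hc', swap_apply_of_ne_of_ne ha' hd'']
  have huv2 := sq_double hc hn (a := a) (b := d) (c := b) (d := c) (by
    simp only [List.nodup_cons, List.mem_cons, List.not_mem_nil, or_false, not_or,
      List.nodup_nil, and_true] at hd ⊢
    tauto) hprod
  have hanti : v * u * v⁻¹ = u * z := by
    have e1 : v * u = u⁻¹ * z * v⁻¹ := by
      rw [← huv2]; group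
    have e2 : u⁻¹ = u * z := inv_eq_of_mul_eq_one_right (by rw [← mul_assoc, hu2, z_sq hc])
    rw [e1, e2, mul_assoc u z z, z_sq hc, mul_one, mul_assoc, ← mul_inv_rev, hv2,
      inv_eq_of_mul_eq_one_right (z_sq hc)]
  have hvw : Commute v w := commute_of_disjoint hc (by
    rw [hv, hw]; exact double_disjoint ha hc' hb hd')
  refine ⟨v, ?_⟩
  have key : v * (u * w) * v⁻¹ = u * w * z := by
    rw [show v * (u * w) * v⁻¹ = v * u * v⁻¹ * (v * w * v⁻¹) by group, hanti, hvw.eq,
      mul_inv_cancel_right, mul_assoc, ← (z_comm hc w).eq, ← mul_assoc]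
  rcases eq_or_of_map hc (x := x) (y := u * w) (by rw [map_mul, hu, hw]; exact he) with rfl | rfl
  · exact key
  · rw [show v * (u * w * z) * v⁻¹ = v * (u * w) * v⁻¹ * (v * z * v⁻¹) by group, key,
      (z_comm hc v).eq, mul_inv_cancel_right]

theorem support_fix8 {y : H} (hy : y ∈ fix8 π) :
    (π y).support ⊆ Finset.univ.filter (fun i : Fin n => (i : ℕ) < 8) := fun i hi => by
  rw [Finset.mem_filter]
  refine ⟨Finset.mem_univ i, ?_⟩
  by_contra hlt
  exact Perm.mem_support.1 hi (mem_fix8.1 hy i (not_lt.1 hlt))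

theorem card_filter_lt (hn : 8 ≤ n) :
    (Finset.univ.filter (fun i : Fin n => (i : ℕ) < 8)).card = 8 := by
  rw [show (8 : ℕ) = Fintype.card (Fin 8) from (Fintype.card_fin 8).symm]
  exact Finset.card_eq_of_equiv_fintype
    ⟨fun i => ⟨i.1, (Finset.mem_filter.1 i.2).2⟩,
      fun i => ⟨⟨i.1, by omega⟩, Finset.mem_filter.2 ⟨Finset.mem_univ _, i.2⟩⟩,
      fun i => rfl, fun i => rfl⟩

theorem eight_of_involution (hn : 5 ≤ n) {x : H} (hx : orderOf x = 2) (hx' : x ≠ z) :
    0 < (π x).support.card ∧ 8 ∣ (π x).support.card := by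
  have h2 : x * x = 1 := by rw [← sq, ← hx, pow_orderOf_eq_one]
  refine ⟨?_, (sq_eq_one_iff hc hn (by rw [← map_mul, h2, map_one])).1 h2⟩
  rw [Finset.card_pos, Finset.nonempty_iff_ne_empty, Ne, Perm.support_eq_empty_iff]
  intro h
  rcases eq_or_of_map_one hc h with rfl | rfl
  · simp at hx
  · exact hx' rfl

/-- Every involution other than `z` is conjugate into the cover of `A₈`. -/
theorem exists_conj_fix8 (hn : 8 ≤ n) (hn' : n ≤ 15) {x : H} (hx : orderOf x = 2) (hx' : x ≠ z) :
    ∃ h, h * x * h⁻¹ ∈ fix8 π := by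
  classical
  obtain ⟨hpos, hdvd⟩ := eight_of_involution hc (by omega) hx hx'
  have hle : (π x).support.card ≤ n :=
    (Finset.card_le_univ _).trans_eq (Fintype.card_fin n)
  have h8 : (π x).support.card = 8 := by omega
  let e := Finset.equivOfCardEq (h8.trans (card_filter_lt hc hn).symm)
  let g₀ : Perm (Fin n) := Equiv.extendSubtype e
  obtain ⟨a, ha⟩ := Finset.card_pos.1 hpos
  obtain ⟨g, hgs, hg⟩ : ∃ g : Perm (Fin n), Perm.sign g = 1 ∧
      ∀ i, π x i ≠ i → (g i : ℕ) < 8 := by
    have h0 : ∀ i, π x i ≠ i → (g₀ i : ℕ) < 8 := fun i hi =>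
      (Finset.mem_filter.1 (Equiv.extendSubtype_mem e i (Perm.mem_support.2 hi))).2
    rcases Int.units_eq_one_or (Perm.sign g₀) with hs | hs
    · exact ⟨g₀, hs, h0⟩
    · have hne := Perm.mem_support.1 ha
      refine ⟨g₀ * swap a (π x a), by rw [map_mul, Perm.sign_swap hne.symm, hs]; decide,
        fun i hi => h0 _ ?_⟩
      rw [swap_apply_def]
      split_ifs with e1 e2
      · exact fun h => hne ((π x).injective h)
      · exact hne
      · exact hi
  obtain ⟨h, hh⟩ := exists_lift hc hgs
  refine ⟨h, mem_fix8.2 fun i hi => ?_⟩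
  rw [map_mul, map_mul, map_inv, hh]
  have hfix : π x (g⁻¹ i) = g⁻¹ i := by
    by_contra hne
    have := hg _ hne
    rw [← Perm.mul_apply, mul_inv_cancel, Perm.one_apply] at this
    omega
  rw [Perm.mul_apply, Perm.mul_apply, hfix, ← Perm.mul_apply, mul_inv_cancel, Perm.one_apply]

/-- In degree at most nine the centraliser of an involution of the cover of `A₈` lies in it. -/
theorem cent_le_fix8 (hn : 8 ≤ n) (hn' : n ≤ 9) {y : H} (hy : y ∈ fix8 π) (hy2 : orderOf y = 2)
    (hy' : y ≠ z) {h : H} (hh : Commute h y) : h ∈ fix8 π := by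
  classical
  obtain ⟨hpos, hdvd⟩ := eight_of_involution hc (by omega) hy2 hy'
  have hsub := support_fix8 hc hy
  have hle := Finset.card_le_card hsub
  rw [card_filter_lt hc hn] at hle
  have heq : (π y).support = Finset.univ.filter (fun i : Fin n => (i : ℕ) < 8) :=
    Finset.eq_of_subset_of_card_le hsub (by rw [card_filter_lt hc hn]; omega)
  refine mem_fix8.2 fun i hi => ?_
  have hfix : π y i = i := mem_fix8.1 hy i hi
  have hcm : π h * π y = π y * π h := by rw [← map_mul, hh.eq, map_mul]
  have h2 : π y (π h i) = π h i := by rw [← Perm.mul_apply, ← hcm, Perm.mul_apply, hfix]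
  have h3 : 8 ≤ (π h i : ℕ) := by
    by_contra hlt
    have : π h i ∈ (π y).support := heq ▸ Finset.mem_filter.2 ⟨Finset.mem_univ _, not_le.1 hlt⟩
    exact Perm.mem_support.1 this h2
  exact Fin.ext (by omega)

/-- The elements fixing the points from eight on form a nonsplit double cover of `A₈`. -/
theorem cover_fix8 (hn : 8 ≤ n) :
    Cfsg.IsNonsplitDoubleCover (fix8 π) (alternatingGroup (Fin 8)) := by
  classical
  let e : Fin 8 ≃ {i : Fin n // (i : ℕ) < 8} :=
    ⟨fun i => ⟨⟨i, by omega⟩, i.2⟩, fun i => ⟨i.1, i.2⟩, fun i => rfl, fun i => rfl⟩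
  let ι : Perm (Fin 8) →* Perm (Fin n) := Perm.extendDomainHom e
  have hι : Function.Injective ι := Perm.extendDomainHom_injective e
  let ρ : fix8 π →* Perm (Fin n) := π.comp (fix8 π).subtype
  have hzf : z ∈ fix8 π := mem_fix8.2 fun i _ => by rw [map_z hc, Perm.one_apply]
  have hrange : ρ.range = (alternatingGroup (Fin 8)).map ι := by
    ext σ
    constructor
    · rintro ⟨⟨w, hw⟩, rfl⟩
      have hp : ∀ i : Fin n, (π w i : ℕ) < 8 ↔ (i : ℕ) < 8 := fun i => by
        by_cases hi : (i : ℕ) < 8
        · refine iff_of_true ?_ hi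
          by_contra hge
          have := mem_fix8.1 hw (π w i) (not_lt.1 hge)
          rw [(π w).injective this] at hge
          exact hge hi
        · rw [mem_fix8.1 hw i (not_lt.1 hi)]
      let τ : Perm (Fin 8) := e.symm.permCongr ((π w).subtypePerm hp)
      have hτ : ι τ = π w := by
        ext i : 1
        by_cases hi : (i : ℕ) < 8
        · show τ.extendDomain e i = _
          rw [Perm.extendDomain_apply_subtype τ e (b := i) hi]
          simp [τ, Equiv.permCongr_apply]
        · show τ.extendDomain e i = _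
          rw [Perm.extendDomain_apply_not_subtype τ e (b := i) hi, mem_fix8.1 hw i (not_lt.1 hi)]
      refine ⟨τ, Perm.mem_alternatingGroup.2 ?_, hτ⟩
      rw [← Perm.sign_extendDomain τ e]
      exact (congrArg Perm.sign hτ).trans (sign_map hc w)
    · rintro ⟨τ, hτ, rfl⟩
      obtain ⟨w, hw⟩ := exists_lift hc (σ := ι τ)
        ((Perm.sign_extendDomain τ e).trans (Perm.mem_alternatingGroup.1 hτ))
      refine ⟨⟨w, mem_fix8.2 fun i hi => ?_⟩, hw⟩
      rw [hw]
      exact Perm.extendDomain_apply_not_subtype τ e (not_lt.2 hi)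
  let ε : ρ.range ≃* alternatingGroup (Fin 8) :=
    (MulEquiv.subgroupCongr hrange).trans (equivMapOfInjective _ ι hι).symm
  let z' : fix8 π := ⟨z, hzf⟩
  have hker : ρ.ker = zpowers z' := by
    ext ⟨w, hw⟩
    constructor
    · intro h
      rcases eq_or_of_map_one hc (MonoidHom.mem_ker.1 h) with rfl | rfl
      · exact one_mem _
      · exact mem_zpowers z'
    · intro h
      obtain ⟨k, hk⟩ := mem_zpowers_iff.1 h
      rw [← hk]
      exact zpow_mem (MonoidHom.mem_ker.2 (map_z hc)) k
  have hcen : center (fix8 π) = ρ.ker := by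
    refine le_antisymm (fun w hw => ?_) ?_
    · have h1 : ε (ρ.rangeRestrict w) ∈ center (alternatingGroup (Fin 8)) :=
        mem_center_iff.2 fun g => by
          obtain ⟨v, hv⟩ := MonoidHom.rangeRestrict_surjective ρ (ε.symm g)
          rw [← ε.apply_symm_apply g, ← hv, ← map_mul, ← map_mul, ← map_mul, ← map_mul,
            mem_center_iff.1 hw v]
      rw [alternatingGroup.center_eq_bot (by simp), mem_bot, MulEquiv.map_eq_one_iff] at h1
      exact congrArg Subtype.val h1
    · rw [hker, zpowers_le, mem_center_iff]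
      exact fun g => Subtype.ext (z_comm hc g.1).eq
  have hz' : orderOf z' = 2 := (orderOf_mk z hzf).trans hc.order
  refine ⟨by rw [hcen, hker, Nat.card_zpowers, hz'],
    ⟨(QuotientGroup.quotientMulEquivOfEq hcen).trans ((QuotientGroup.quotientKerEquivRange ρ).trans ε)⟩,
    fun L hL => ?_⟩
  let a : Fin n := ⟨0, by omega⟩
  let b : Fin n := ⟨1, by omega⟩
  let c : Fin n := ⟨2, by omega⟩
  let d : Fin n := ⟨3, by omega⟩
  have hnd : [a, b, c, d].Nodup := by simp [a, b, c, d]
  obtain ⟨u, hu⟩ := exists_lift hc (sign_double hnd)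
  have huf : u ∈ fix8 π := mem_fix8.2 fun i hi => by
    have h1 : ∀ j : Fin n, (j : ℕ) < 8 → i ≠ j := fun j hj e => by
      rw [e] at hi; omega
    rw [hu, Perm.mul_apply, swap_apply_of_ne_of_ne (h1 c (by simp [c])) (h1 d (by simp [d])),
      swap_apply_of_ne_of_ne (h1 a (by simp [a])) (h1 b (by simp [b]))]
  obtain ⟨⟨⟨k, hk⟩, ⟨l, hl⟩⟩, hkl⟩ := IsComplement.existsUnique hL (⟨u, huf⟩ : fix8 π) |>.exists
  rw [SetLike.mem_coe, hcen, hker] at hk
  have hlu : (l : fix8 π) * l = z' := by
    obtain ⟨j, hj⟩ := mem_zpowers_iff.1 hk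
    have hkz : k * k = 1 := by
      rw [← hj, ← zpow_add, ← two_mul, zpow_mul, zpow_two,
        show z' * z' = 1 from Subtype.ext (z_sq hc), one_zpow]
    have hz1 : Commute z' l := Subtype.ext (z_comm hc l.1).eq.symm
    have hcomm : Commute k l := hj ▸ hz1.zpow_left j
    calc l * l = k * k * (l * l) := by rw [hkz, one_mul]
      _ = (k * l) * (k * l) := (Commute.mul_mul_mul_comm hcomm.symm k l).symm
      _ = z' := by
          rw [show k * l = ⟨u, huf⟩ from hkl]
          exact Subtype.ext (sq_double hc (by omega) hnd hu)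
  have hzL : z' ∈ L := hlu ▸ mul_mem hl hl
  have hzc' : z' ∈ center (fix8 π) := by rw [hcen, hker]; exact mem_zpowers z'
  have := Subgroup.mem_bot.1 (hL.disjoint.le_bot ⟨hzc', hzL⟩)
  exact z_ne hc (congrArg Subtype.val this)

end Cfsg.Agent.AltDouble
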