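import Mathlib
import Cfsg.Prelude.Def_SporadicB

/-!
Transfer of the property of being a non-split double cover along an isomorphism.
-/

set_option autoImplicit false

namespace Cfsg.Agent.AltDouble

theorem cover_congr {A B K : Type*} [Group A] [Group B] [Group K] (e : A ≃* B)
    (h : Cfsg.IsNonsplitDoubleCover A K) : Cfsg.IsNonsplitDoubleCover B K := by
  obtain ⟨h1, ⟨i⟩, h3⟩ := h
  have hc : (Subgroup.center A).map e.toMonoidHom = Subgroup.center B := by
    ext b
    simp only [Subgroup.mem_map, Subgroup.mem_center_iff, MulEquiv.coe_toMonoidHom]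
    constructor
    · rintro ⟨a, ha, rfl⟩ g
      obtain ⟨g, rfl⟩ := e.surjective g
      rw [← map_mul, ← map_mul, ha]
    · intro hb
      exact ⟨e.symm b, fun g => e.injective (by rw [map_mul, map_mul, e.apply_symm_apply, hb]), e.apply_symm_apply b⟩
  refine ⟨?_, ⟨(QuotientGroup.congr _ _ e hc).symm.trans i⟩, fun L hL => ?_⟩
  · rw [← hc, Subgroup.card_map_of_injective e.injective, h1]
  · refine h3 (L.map e.symm.toMonoidHom) ?_
    have hd : Subgroup.center A = (Subgroup.center B).map e.symm.toMonoidHom := by
      rw [← hc, Subgroup.map_map]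
      ext x
      simp [Subgroup.mem_map]
    rw [hd]
    refine Subgroup.isComplement'_of_disjoint_and_mul_eq_univ ?_ ?_
    · rw [disjoint_iff, ← Subgroup.map_inf _ _ _ e.symm.injective, hL.disjoint.eq_bot, Subgroup.map_bot]
    · ext x
      simp only [Set.mem_univ, iff_true, Set.mem_mul, SetLike.mem_coe]
      obtain ⟨⟨p, q⟩, hpq, -⟩ := hL.existsUnique (e x)
      exact ⟨e.symm p, Subgroup.mem_map_of_mem _ p.2, e.symm q, Subgroup.mem_map_of_mem _ q.2, by
        rw [← map_mul]
        simp only at hpq
        rw [hpq, e.symm_apply_apply]⟩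


end Cfsg.Agent.AltDouble
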