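import Mathlib
import Cfsg.Prelude.Def_SporadicB

/-!
# Nonsplit double covers of alternating groups, as maps into the symmetric group
-/

set_option autoImplicit false

namespace Cfsg.Agent.AltDouble

open Subgroup

universe u

variable {n : ℕ}

/-- A nonsplit double cover of the alternating group of degree `n` with central involution `z`,
given by its map to the symmetric group. -/
structure IsAltCover {H : Type u} [Group H] (π : H →* Equiv.Perm (Fin n)) (z : H) : Prop where
  range : π.range = alternatingGroup (Fin n)
  ker : π.ker = zpowers z
  center_eq : center H = zpowers z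
  order : orderOf z = 2
  nonsplit : ∀ L : Subgroup H, ¬ (center H).IsComplement' L

/-- The elements whose image fixes all the points from 8 on. -/
def fix8 {H : Type u} [Group H] (π : H →* Equiv.Perm (Fin n)) : Subgroup H :=
  (fixingSubgroup (Equiv.Perm (Fin n)) {i : Fin n | 8 ≤ (i : ℕ)}).comap π

theorem mem_fix8 {H : Type u} [Group H] {π : H →* Equiv.Perm (Fin n)} {x : H} :
    x ∈ fix8 π ↔ ∀ i : Fin n, 8 ≤ (i : ℕ) → π x i = i := by
  simp [fix8, mem_fixingSubgroup_iff]

end Cfsg.Agent.AltDouble
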