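import Cfsg.Agent.Lib.AltDouble.Invariant

/-!
# The invariants when the involution moves eight points
-/

set_option autoImplicit false
set_option linter.unusedSectionVars false
set_option linter.style.haveILetI false

namespace Cfsg.Agent.AltDouble.Inv

open Subgroup Equiv

universe u

variable {H : Type u} [Group H] {n : ℕ} {π : H →* Perm (Fin n)} {z t : H}

theorem mem_cent (hd : ∀ x y : H, (π x).Disjoint (π y) → Commute x y) {x : H}
    (h : (π x).Disjoint (π t)) : x ∈ centralizer {t} :=
  mem_centralizer_singleton_iff.2 (hd _ _ h).eq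

/-- A permutation all of whose moved points lie outside the support of `T`. -/
theorem disjoint_of {P T : Perm (Fin n)} (h : ∀ i, T i ≠ i → P i = i) : P.Disjoint T := fun i =>
  (em (T i = i)).elim Or.inr (fun e => Or.inl (h i e))

/-- The central involution is the square of a product of two elements killed by five. -/
theorem invFive_z (hc : IsAltCover π z)
    (hd : ∀ x y : H, (π x).Disjoint (π y) → Commute x y)
    (hs : ∀ x : H, ∀ a b c d : Fin n, [a, b, c, d].Nodup → π x = swap a b * swap c d → x * x = z)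
    (hn : (π t).support.card + 5 ≤ n) : InvFive (centralizer {t}) z := by
  set T := π t with hTdef
  have hF : 5 ≤ T.supportᶜ.card := by rw [Finset.card_compl, Fintype.card_fin]; omega
  obtain ⟨s, hsub, hs5⟩ := Finset.exists_subset_card_eq hF
  let f : Fin 5 ↪ Fin n := (s.equivFinOfCardEq hs5).symm.toEmbedding.trans (Function.Embedding.subtype _)
  have hf : ∀ i, f i ∈ T.supportᶜ := fun i => hsub ((s.equivFinOfCardEq hs5).symm i).2
  have hdis : ∀ p : Perm (Fin 5), (Perm.viaEmbeddingHom f p).Disjoint T := by
    intro p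
    refine disjoint_of fun i hi => ?_
    rw [Perm.viaEmbeddingHom_apply, Perm.viaEmbedding_apply_of_notMem]
    rintro ⟨j, rfl⟩
    exact (Finset.mem_compl.1 (hf j)) (Perm.mem_support.2 hi)
  let p : Perm (Fin 5) := swap 0 2 * swap 2 1 * swap 1 3 * swap 3 4
  let q : Perm (Fin 5) := p⁻¹ * (swap 0 1 * swap 2 3)
  obtain ⟨u, hu, hu5⟩ := exists_odd_lift hc (p := Perm.viaEmbeddingHom f p) (j := 5) (by decide)
    (by rw [← map_pow, show p ^ 5 = 1 by decide +kernel, map_one])
  obtain ⟨v, hv, hv5⟩ := exists_odd_lift hc (p := Perm.viaEmbeddingHom f q) (j := 5) (by decide)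
    (by rw [← map_pow, show q ^ 5 = 1 by decide +kernel, map_one])
  refine ⟨u, mem_cent hd (hu ▸ hdis p), v, mem_cent hd (hv ▸ hdis q), hu5, hv5, ?_⟩
  have hswap : ∀ i j, Perm.viaEmbeddingHom f (swap i j) = swap (f i) (f j) := by
    intro i j
    refine Perm.ext fun x => ?_
    rw [Perm.viaEmbeddingHom_apply]
    by_cases hx : x ∈ Set.range f
    · obtain ⟨k, rfl⟩ := hx
      rw [Perm.viaEmbedding_apply, f.injective.swap_apply]
    · rw [Perm.viaEmbedding_apply_of_notMem _ _ _ hx, swap_apply_of_ne_of_ne]
      · exact fun e => hx ⟨i, e.symm⟩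
      · exact fun e => hx ⟨j, e.symm⟩
  refine hs _ (f 0) (f 1) (f 2) (f 3) ?_ ?_
  · exact (List.nodup_map_iff f.injective).2 (by decide : [(0 : Fin 5), 1, 2, 3].Nodup)
  · rw [map_mul, hu, hv, ← map_mul, show p * q = swap 0 1 * swap 2 3 from mul_inv_cancel_left _ _,
      map_mul, hswap, hswap]

/-- The other involution is not. -/
theorem not_invFive (ht : t * t = 1) (hcard : (π t).support.card = 8) :
    ¬ InvFive (centralizer {t}) t := by
  rintro ⟨u, hu, v, hv, hu5, hv5, he⟩
  set T := π t with hTdef
  have hT : T * T = 1 := by rw [hTdef, ← map_mul, ht, map_one]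
  have hfix : ∀ w ∈ centralizer ({t} : Set H), w ^ 5 = 1 → ∀ a ∈ T.support, π w a = a := by
    intro w hw hw5
    have hcm : Commute (π w) T := (show Commute w t from mem_centralizer_singleton_iff.1 hw).map π
    refine fix_of_small (X := T) (p := 5) (q := 2) (by norm_num) (by norm_num) two_pos
      (by rw [← map_pow, hw5, map_one]) hcm ?_ (fun a ha => Perm.apply_mem_support.2 ha) ?_ ?_
      (by omega)
    · intro a ha
      rw [Perm.mem_support] at ha ⊢
      intro e
      exact ha ((π w).injective (by rw [← Perm.mul_apply, hcm.eq, Perm.mul_apply, e]))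
    · intro a ha j hj
      by_contra hodd
      obtain ⟨i, rfl⟩ := Nat.odd_iff.2 (Nat.two_dvd_ne_zero.1 hodd)
      rw [pow_succ', pow_mul, sq, hT, one_pow, mul_one] at hj
      exact Perm.mem_support.1 ha hj
    · intro a _
      rw [sq, hT, Perm.one_apply]
  obtain ⟨a, ha⟩ := Finset.card_pos.1 (by omega : 0 < T.support.card)
  refine Perm.mem_support.1 ha ?_
  have e : T = π u * π v * (π u * π v) := by rw [hTdef, ← he, map_mul, map_mul]
  rw [e]
  simp only [Perm.mul_apply, hfix u hu hu5 a ha, hfix v hv hv5 a ha]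

/-- With four fixed points the central involution has two such roots. -/
theorem invThree_z (hc : IsAltCover π z)
    (hd : ∀ x y : H, (π x).Disjoint (π y) → Commute x y)
    (hs : ∀ x : H, ∀ a b c d : Fin n, [a, b, c, d].Nodup → π x = swap a b * swap c d → x * x = z)
    (ht : t * t = 1) (hcard : (π t).support.card = 8) (hn : 12 ≤ n) :
    InvThree (centralizer {t}) z := by
  set T := π t with hTdef
  have hT : T * T = 1 := by rw [hTdef, ← map_mul, ht, map_one]
  have hTT : ∀ i, T (T i) = i := fun i => by rw [← Perm.mul_apply, hT, Perm.one_apply]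
  obtain ⟨a, ha⟩ := Finset.card_pos.1 (by omega : 0 < T.support.card)
  obtain ⟨c, hcs, hcn⟩ := Finset.exists_mem_notMem_of_card_lt_card
    (s := ([a, T a] : List (Fin n)).toFinset) (t := T.support)
    (lt_of_le_of_lt (List.toFinset_card_le _) (by simp; omega))
  obtain ⟨e, hes, hen⟩ := Finset.exists_mem_notMem_of_card_lt_card
    (s := ([a, T a, c, T c] : List (Fin n)).toFinset) (t := T.support)
    (lt_of_le_of_lt (List.toFinset_card_le _) (by simp; omega))
  rw [Perm.mem_support] at ha hcs hes
  simp only [List.mem_toFinset, List.mem_cons, List.not_mem_nil, or_false, not_or] at hcn hen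
  obtain ⟨c1, c2⟩ := hcn
  obtain ⟨e1, e2, e5, e6⟩ := hen
  have hnd : [a, c, e, T a, T c, T e].Nodup := by
    have h1 : a ≠ T c := fun h => c2 (by rw [h, hTT])
    have h2 : a ≠ T e := fun h => e2 (by rw [h, hTT])
    have h3 : c ≠ T e := fun h => e6 (by rw [h, hTT])
    have h4 : T a ≠ T c := fun h => c1 (T.injective h).symm
    have h5 : T a ≠ T e := fun h => e1 (T.injective h).symm
    have h6 : T c ≠ T e := fun h => e5 (T.injective h).symm
    simp [Ne.symm c1, Ne.symm e1, Ne.symm ha, Ne.symm e5, Ne.symm hcs, Ne.symm hes, h1, h2, h3,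
      h4, h5, h6, c2, e2, e6]
  obtain ⟨hcomm, h3, va, vc, ve, vA, vC, vE, vfix⟩ := pairCycle_facts hT hnd rfl
  set h := swap a c * swap c e * (swap (T a) (T c) * swap (T c) (T e)) with hh
  have hfixh : ∀ i, T i = i → h i = i := fun i hi => by
    refine vfix i ?_
    simp only [List.mem_cons, List.not_mem_nil, or_false, not_or]
    refine ⟨?_, ?_, ?_, ?_, ?_, ?_⟩ <;> intro e' <;> subst e'
    · exact ha hi
    · exact hcs hi
    · exact hes hi
    · exact ha (T.injective hi)
    · exact hcs (T.injective hi)
    · exact hes (T.injective hi)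
  have hF : 4 ≤ T.supportᶜ.card := by rw [Finset.card_compl, Fintype.card_fin]; omega
  obtain ⟨s, hsub, hs4⟩ := Finset.exists_subset_card_eq hF
  let f : Fin 4 → Fin n := fun i => ((s.equivFinOfCardEq hs4).symm i : Fin n)
  have hfi : Function.Injective f := fun i j hij =>
    (s.equivFinOfCardEq hs4).symm.injective (Subtype.ext hij)
  have hf : ∀ i, T (f i) = f i := fun i => by
    have := hsub ((s.equivFinOfCardEq hs4).symm i).2
    simpa [f] using Finset.mem_compl.1 this
  have hnf : ∀ i, T i ≠ i → ∀ j, i ≠ f j := fun i hi j e' => hi (e' ▸ hf j)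
  set p := swap (f 0) (f 1) * swap (f 1) (f 2) with hp
  set X := swap (f 0) (f 1) * swap (f 2) (f 3) with hX
  have dis2 : ∀ i j k l : Fin 4, (swap (f i) (f j) * swap (f k) (f l)).Disjoint T := fun i j k l =>
    disjoint_of fun x hx => by
      rw [Perm.mul_apply, swap_apply_of_ne_of_ne (hnf x hx k) (hnf x hx l),
        swap_apply_of_ne_of_ne (hnf x hx i) (hnf x hx j)]
  have dish : ∀ i j k l : Fin 4, (swap (f i) (f j) * swap (f k) (f l)).Disjoint h := fun i j k l x =>
    (em (T x = x)).elim (fun e' => Or.inr (hfixh x e')) fun e' =>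
      Or.inl ((dis2 i j k l x).resolve_right e')
  have hp3 : p ^ 3 = 1 := by
    have h1 : p.IsThreeCycle := by
      rw [hp, swap_comm (f 0) (f 1)]
      exact Perm.isThreeCycle_swap_mul_swap_same (fun e' => absurd (hfi e') (by decide))
        (fun e' => absurd (hfi e') (by decide)) (fun e' => absurd (hfi e') (by decide))
    rw [← h1.orderOf, pow_orderOf_eq_one]
  obtain ⟨u, hu, hu3⟩ := exists_odd_lift hc (j := 3) (by decide) h3
  obtain ⟨w, hw, hw3⟩ := exists_odd_lift hc (j := 3) (by decide) hp3
  obtain ⟨x, hx⟩ := exists_lift hc (p := X) (by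
    rw [hX]
    simp [Perm.sign_mul, Perm.sign_swap (hfi.ne (show (0 : Fin 4) ≠ 1 by decide)),
      Perm.sign_swap (hfi.ne (show (2 : Fin 4) ≠ 3 by decide))])
  obtain ⟨y, hy, hyt, hyy⟩ := exists_flip hc hd hs hT ha hcs c1 c2
  have hXT : (π x).Disjoint T := by rw [hx]; exact dis2 0 1 2 3
  have hpT : (π w).Disjoint T := by rw [hw]; exact dis2 0 1 1 2
  have hva : π u a = c := by rw [hu, va]
  have hwa : π w a = a := (hpT a).resolve_right ha
  refine ⟨u, mem_centralizer_singleton_iff.2 (commute_of_odd hc (by decide) hu3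
      (by rw [hu]; exact hcomm)).eq, w, mem_cent hd hpT, x, mem_cent hd hXT, y,
    mem_centralizer_singleton_iff.2 hyt.eq, hu3, hw3, ?_, ?_, ?_, ?_,
    hd _ _ (by rw [hu, hw]; exact (dish 0 1 1 2).symm), ?_, hyy,
    hd _ _ (by rw [hu, hx]; exact dish 0 1 2 3), hd _ _ ?_⟩
  · intro e'
    rw [e', map_one, Perm.one_apply] at hva
    exact c1 hva.symm
  · intro e'
    have h1 : π w (f 0) = f 1 := by
      rw [hw, hp, Perm.mul_apply, swap_apply_of_ne_of_ne (hfi.ne (by decide)) (hfi.ne (by decide)),
        swap_apply_left]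
    rw [e', map_one, Perm.one_apply] at h1
    exact absurd (hfi h1) (by decide)
  · intro e'
    rw [e', hva] at hwa
    exact c1 hwa
  · intro e'
    have : π u⁻¹ a = a := e' ▸ hwa
    rw [map_inv, Perm.inv_eq_iff_eq, hva] at this
    exact c1 this.symm
  · exact hs x _ _ _ _ ((List.nodup_map_iff hfi).2 (by decide : [(0 : Fin 4), 1, 2, 3].Nodup)) hx
  · rw [hy, hw]
    intro i
    by_cases hi : T i = i
    · left
      have k1 : swap c (T c) i = i := swap_apply_of_ne_of_ne (fun e' => hcs (e' ▸ hi))
        (fun e' => hcs (by rw [e', hTT] at hi; exact hi.symm))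
      have k2 : swap a (T a) i = i := swap_apply_of_ne_of_ne (fun e' => ha (e' ▸ hi))
        (fun e' => ha (by rw [e', hTT] at hi; exact hi.symm))
      rw [Perm.mul_apply, k1, k2]
    · exact Or.inr (by rw [← hw]; exact (hpT i).resolve_right hi)

/-- The other involution has not. -/
theorem not_invThree (hc : IsAltCover π z) (ht : t * t = 1) (hcard : (π t).support.card = 8)
    (hn : n = 12) : ¬ InvThree (centralizer {t}) t := by
  rintro ⟨u, hu, w, hw, x, hx, y, hy, hu3, hw3, hu1, hw1, hwu, hwu', huw, hxx, hyy, hxu, hyw⟩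
  set T := π t with hTdef
  have hT : T * T = 1 := by rw [hTdef, ← map_mul, ht, map_one]
  have hTT : ∀ i, T (T i) = i := fun i => by rw [← Perm.mul_apply, hT, Perm.one_apply]
  have hfix : ∀ k r : H, k ∈ centralizer ({t} : Set H) → k ^ 3 = 1 → r * r = t → Commute r k →
      ∀ a ∈ T.support, π k a = a := by
    intro k r hk hk3 hr hrk
    have hcm : Commute (π k) T := (show Commute k t from mem_centralizer_singleton_iff.1 hk).map π
    have hRR : π r * π r = T := by rw [hTdef, ← hr, map_mul]
    have hRT : Commute (π r) T := by rw [← hRR]; exact (Commute.refl _).mul_right (Commute.refl _)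
    have hsup : ∀ g : Perm (Fin n), Commute g T → ∀ a ∈ T.support, g a ∈ T.support := by
      intro g hg a ha
      rw [Perm.mem_support] at ha ⊢
      intro e
      exact ha (g.injective (by rw [← Perm.mul_apply, hg.eq, Perm.mul_apply, e]))
    refine fix_of_small (X := π r) (p := 3) (q := 4) (by norm_num) (by norm_num) (by norm_num)
      (by rw [← map_pow, hk3, map_one]) ((hrk.map π).symm) (hsup _ hcm) (hsup _ hRT) ?_ ?_
      (by omega)
    · intro a ha j hj
      rw [Perm.mem_support] at ha
      obtain ⟨q, i, hi, rfl⟩ : ∃ q i, i < 4 ∧ j = 4 * q + i :=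
        ⟨j / 4, j % 4, Nat.mod_lt _ (by norm_num), (Nat.div_add_mod j 4).symm⟩
      rw [pow_add, pow_mul, show (π r) ^ 4 = 1 by rw [show 4 = 2 * 2 by rfl, pow_mul, sq (π r), hRR, sq,
        hT], one_pow, one_mul] at hj
      interval_cases i
      · exact dvd_add (dvd_mul_right _ _) (dvd_zero _)
      · rw [pow_one] at hj
        exact absurd (by rw [← hRR, Perm.mul_apply, hj, hj] : T a = a) ha
      · rw [sq, hRR] at hj
        exact absurd hj ha
      · rw [pow_succ, sq, hRR] at hj
        refine absurd (?_ : T a = a) ha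
        have h1 : (π r) a = T a := by
          have := congrArg (⇑T) hj
          rw [← Perm.mul_apply, ← mul_assoc, hT, one_mul] at this
          exact this
        have h2 : π r (π r a) = π r a := by rw [← Perm.mul_apply, hRR, h1]
        have h3 := (π r).injective h2
        rw [h3] at h1
        exact h1.symm
    · intro a _
      rw [show 4 = 2 * 2 by rfl, pow_mul, sq (π r), hRR, sq, hT, Perm.one_apply]
  have hPfix := hfix u x hu hu3 hxx hxu
  have hQfix := hfix w y hw hw3 hyy hyw
  set P := π u with hPdef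
  set Q := π w with hQdef
  have hP3 : P ^ 3 = 1 := by rw [hPdef, ← map_pow, hu3, map_one]
  have hcPQ : Commute P Q := huw.map π
  have hP3' : ∀ i, P (P (P i)) = i := fun i => by
    simpa [pow_succ] using DFunLike.congr_fun hP3 i
  have hPne : P ≠ 1 := fun e => by
    rcases ker_cases hc e with h | h
    · exact hu1 h
    · rw [h, pow_succ, sq, z_sq hc, one_mul] at hu3
      exact z_ne_one hc hu3
  have hQne : Q ≠ 1 := fun e => by
    rcases ker_cases hc e with h | h
    · exact hw1 h
    · rw [h, pow_succ, sq, z_sq hc, one_mul] at hw3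
      exact z_ne_one hc hw3
  obtain ⟨a, ha⟩ : ∃ a, P a ≠ a := by
    by_contra! hall
    exact hPne (Perm.ext hall)
  have haF : ∀ i, P i ≠ i → i ∈ T.supportᶜ := fun i hi =>
    Finset.mem_compl.2 fun hs => hi (hPfix i hs)
  have hF : T.supportᶜ.card = 4 := by rw [Finset.card_compl, Fintype.card_fin]; omega
  have d1 : P (P a) ≠ a := fun e => ha (by have := hP3' a; rw [e] at this; exact this)
  have d2 : P (P a) ≠ P a := fun e => ha (P.injective e)
  set O : Finset (Fin n) := {a, P a, P (P a)} with hO
  have hOc : O.card = 3 := by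
    rw [hO, Finset.card_insert_of_notMem (by simp [Ne.symm ha, Ne.symm d1]),
      Finset.card_insert_of_notMem (by simp [Ne.symm d2]), Finset.card_singleton]
  have hOF : O ⊆ T.supportᶜ := by
    intro i hi
    simp only [hO, Finset.mem_insert, Finset.mem_singleton] at hi
    rcases hi with rfl | rfl | rfl
    · exact haF _ ha
    · exact haF _ d2
    · exact haF _ (fun e => d2 (P.injective e))
  obtain ⟨d, hd⟩ := Finset.card_eq_one.1 (by
    rw [Finset.card_sdiff_of_subset hOF, hOc, hF] : (T.supportᶜ \ O).card = 1)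
  have hFd : ∀ i, i ∉ T.support → i ∈ O ∨ i = d := fun i hi =>
    (em (i ∈ O)).imp id fun hn => Finset.mem_singleton.1 (hd ▸ Finset.mem_sdiff.2
      ⟨Finset.mem_compl.2 hi, hn⟩)
  have hdO : d ∉ O ∧ d ∉ T.support := by
    have h := Finset.mem_sdiff.1 (hd.symm ▸ Finset.mem_singleton_self d : d ∈ T.supportᶜ \ O)
    exact ⟨h.2, Finset.mem_compl.1 h.1⟩
  have hmovO : ∀ i, P i ≠ i → i ∈ O → P i ∈ O := by
    intro i _ hi
    simp only [hO, Finset.mem_insert, Finset.mem_singleton] at hi ⊢
    rcases hi with rfl | rfl | rfl <;> simp [hP3']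
  have hPd : P d = d := by
    by_contra hne
    rcases hFd (P d) (Finset.mem_compl.1 (haF _ fun e => hne (P.injective e))) with h | h
    · refine hdO.1 ?_
      have := hmovO _ (fun e => hne (P.injective e)) h
      have := hmovO _ (fun e => hne (P.injective (P.injective e))) this
      rwa [hP3'] at this
    · exact hne h
  have hPO : ∀ i ∈ O, P i ≠ i := by
    intro i hi
    simp only [hO, Finset.mem_insert, Finset.mem_singleton] at hi
    rcases hi with rfl | rfl | rfl
    · exact ha
    · exact d2
    · exact fun e => d2 (P.injective e)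
  have hQns : ∀ i, i ∉ T.support → Q i ∉ T.support := fun i hi hs => hi (by
    have h := Q.injective (hQfix _ hs)
    rw [h] at hs
    exact hs)
  have hQd : Q d = d := by
    rcases hFd (Q d) (hQns d hdO.2) with h | h
    · exact absurd (by rw [← Perm.mul_apply, hcPQ.eq, Perm.mul_apply, hPd]) (hPO _ h)
    · exact h
  obtain ⟨i, hi3, hQa⟩ : ∃ i < 3, Q a = (P ^ i) a := by
    rcases hFd (Q a) (hQns a (Finset.mem_compl.1 (haF _ ha))) with h | h
    · simp only [hO, Finset.mem_insert, Finset.mem_singleton] at h
      rcases h with h | h | h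
      · exact ⟨0, by norm_num, by simpa using h⟩
      · exact ⟨1, by norm_num, by simpa using h⟩
      · exact ⟨2, by norm_num, by rw [sq, Perm.mul_apply, h]⟩
    · exact absurd (Q.injective (h.trans hQd.symm)) fun e => ha (by rw [e, hPd])
  have hQP : Q = P ^ i := by
    refine Perm.ext fun k => ?_
    by_cases hk : k ∈ T.support
    · rw [hQfix k hk]
      clear hQa hi3
      induction i with
      | zero => simp
      | succ i ih => rw [pow_succ, Perm.mul_apply, hPfix k hk, ← ih]
    rcases hFd k hk with h | rfl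
    · have key : ∀ j : ℕ, Q ((P ^ j) a) = (P ^ i) ((P ^ j) a) := fun j => by
        rw [← Perm.mul_apply, ← (hcPQ.pow_left j).eq, Perm.mul_apply, hQa, ← Perm.mul_apply,
          ← Perm.mul_apply, ← pow_add, ← pow_add, add_comm]
      simp only [hO, Finset.mem_insert, Finset.mem_singleton] at h
      rcases h with rfl | rfl | rfl
      · simpa using key 0
      · simpa using key 1
      · simpa [sq] using key 2
    · rw [hQd]
      clear hQa hi3
      induction i with
      | zero => simp
      | succ i ih => rw [pow_succ, Perm.mul_apply, hPd, ← ih]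
  have hwi : w = u ^ i := by
    have hk : π (w * (u ^ i)⁻¹) = 1 := by
      rw [map_mul, map_inv, map_pow, ← hQdef, ← hPdef, hQP, mul_inv_cancel]
    rcases ker_cases hc hk with h | h
    · exact mul_inv_eq_one.1 h
    · exfalso
      have h3 : (w * (u ^ i)⁻¹) ^ 3 = 1 := by
        rw [((huw.pow_left i).symm.inv_right).mul_pow, hw3, inv_pow, ← pow_mul, mul_comm i, pow_mul,
          hu3, one_pow, inv_one, one_mul]
      rw [h, pow_succ, sq, z_sq hc, one_mul] at h3
      exact z_ne_one hc h3
  interval_cases i
  · exact hQne (by rw [hQP, pow_zero])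
  · exact hwu (by rw [hwi, pow_one])
  · refine hwu' (eq_inv_of_mul_eq_one_left ?_)
    rw [hwi, ← pow_succ, hu3]

end Cfsg.Agent.AltDouble.Inv
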