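import Cfsg.Agent.Lib.AltDouble.Basic
import Cfsg.Agent.Lib.AltDouble.InvariantEight
import Cfsg.Agent.Lib.McLType.Fusion

/-!
# The fusion of the involution and the degrees left by it
-/

set_option autoImplicit false
set_option linter.unusedSectionVars false
set_option linter.style.haveILetI false

namespace Cfsg.Agent.AltDouble

open Subgroup Equiv Inv
open scoped commutatorElement

universe u v

variable {G : Type u} [Group G] {K : Type v} [Group K]

theorem Inv.InvTwo.of_map {S : Subgroup G} {a : G} {f : G →* K} (hf : Function.Injective f)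
    (h : InvTwo (S.map f) (f a)) : InvTwo S a := by
  obtain ⟨_, ⟨x, hx, rfl⟩, e, h⟩ := h
  refine ⟨x, hx, hf (by rw [map_mul, e]), fun k hk => ?_⟩
  rcases h _ (mem_map_of_mem f hk) with h | h <;>
    rw [← map_inv, ← map_mul, ← map_mul, ← map_commutatorElement] at h
  · exact Or.inl (hf (h.trans (map_one f).symm))
  · exact Or.inr (hf h)

theorem Inv.InvFive.of_map {S : Subgroup G} {a : G} {f : G →* K} (hf : Function.Injective f)
    (h : InvFive (S.map f) (f a)) : InvFive S a := by
  obtain ⟨_, ⟨u, hu, rfl⟩, _, ⟨v, hv, rfl⟩, h1, h2, h3⟩ := h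
  exact ⟨u, hu, v, hv, hf (by rw [map_pow, h1, map_one]), hf (by rw [map_pow, h2, map_one]),
    hf (by simp only [map_mul]; exact h3)⟩

theorem Inv.InvThree.of_map {S : Subgroup G} {a : G} {f : G →* K} (hf : Function.Injective f)
    (h : InvThree (S.map f) (f a)) : InvThree S a := by
  obtain ⟨_, ⟨u, hu, rfl⟩, _, ⟨w, hw, rfl⟩, _, ⟨x, hx, rfl⟩, _, ⟨y, hy, rfl⟩, h1, h2, h3, h4, h5,
    h6, h7, h8, h9, h10, h11⟩ := h
  have hc : ∀ {p q : G}, Commute (f p) (f q) → Commute p q := fun {p q} h =>
    hf (by rw [map_mul, map_mul]; exact h.eq)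
  exact ⟨u, hu, w, hw, x, hx, y, hy, hf (by rw [map_pow, h1, map_one]),
    hf (by rw [map_pow, h2, map_one]), fun e => h3 (by rw [e, map_one]),
    fun e => h4 (by rw [e, map_one]), fun e => h5 (by rw [e]), fun e => h6 (by rw [e, map_inv]),
    hc h7, hf (by rw [map_mul, h8]), hf (by rw [map_mul, h9]), hc h10, hc h11⟩

variable [Finite G]

/-- In a simple group the involution is fused in its centraliser. -/
theorem exists_fused [IsSimpleGroup G] {n : ℕ} (hn : 5 ≤ n) {z : G} (hz : orderOf z = 2)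
    (hcov : Cfsg.IsNonsplitDoubleCover (centralizer ({z} : Set G)) (alternatingGroup (Fin n))) :
    ∃ g : G, g * z * g⁻¹ ∈ centralizer ({z} : Set G) ∧ g * z * g⁻¹ ≠ z := by
  refine McLType.exists_conj z hz fun h => ?_
  haveI : (Cfsg.oddCore G).Normal := inferInstance
  have hO : Cfsg.oddCore G = ⊥ := by
    refine ((inferInstance : (Cfsg.oddCore G).Normal).eq_bot_or_eq_top).resolve_right fun e => ?_
    have h1 := InvChar.Core.odd_card_oddCore (G := G)
    rw [e, card_top] at h1
    exact Nat.not_even_iff_odd.2 h1 (even_iff_two_dvd.2 (hz ▸ orderOf_dvd_natCard z))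
  rw [hO, sup_bot_eq] at h
  have hzc : z ∈ center G := mem_center_iff.2 fun y =>
    mem_centralizer_singleton_iff.1 (h ▸ mem_top y)
  have hab : center G = ⊤ := by
    refine (center G).normal_of_characteristic.eq_bot_or_eq_top.resolve_left fun e => ?_
    rw [e, mem_bot] at hzc
    rw [hzc, orderOf_one] at hz
    omega
  have hall : ∀ a b : G, a * b = b * a := fun a b => mem_center_iff.1 (hab ▸ mem_top b) a
  obtain ⟨h2, ⟨e⟩, -⟩ := hcov
  have hC : center (centralizer ({z} : Set G)) = ⊤ :=
    eq_top_iff.2 fun x _ => mem_center_iff.2 fun y => Subtype.ext (hall _ _)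
  rw [hC, card_top] at h2
  have hq : Nat.card (centralizer ({z} : Set G) ⧸ center (centralizer ({z} : Set G))) = 1 := by
    rw [← index_eq_card, hC, index_top]
  have h1 : Nat.card (alternatingGroup (Fin n)) = 1 := by rw [← Nat.card_congr e.toEquiv, hq]
  haveI : Nontrivial (Fin n) := Fin.nontrivial_iff_two_le.2 (by omega)
  have h2' := nat_card_alternatingGroup (α := Fin n)
  rw [h1, Nat.card_eq_fintype_card, Fintype.card_fin] at h2'
  have := Nat.factorial_le hn
  simp [Nat.factorial] at this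
  omega

/-- The degree is eight to eleven, and a fused pair of involutions generates a four group with an
element of order three on it. -/
theorem small {n : ℕ} (hn : 5 ≤ n) {z : G} (hz : orderOf z = 2)
    {π : centralizer ({z} : Set G) →* Perm (Fin n)}
    {zc : centralizer ({z} : Set G)} (hzc : (zc : G) = z) (hc : IsAltCover π zc)
    {g : G} (hg : g * z * g⁻¹ ∈ centralizer ({z} : Set G)) (hne : g * z * g⁻¹ ≠ z) :
    (8 ≤ n ∧ n ≤ 11) ∧ ∃ (τ : centralizer ({z} : Set G)) (c : G), orderOf τ = 2 ∧ τ ≠ zc ∧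
      (π τ).support.card = 8 ∧ c * z * c⁻¹ = τ ∧ c * τ * c⁻¹ = τ * z ∧ c * (τ * z) * c⁻¹ = z ∧
      (centralizer ({z} : Set G) ⊓ centralizer {(τ : G)}).map (MulAut.conj c).toMonoidHom =
        centralizer ({z} : Set G) ⊓ centralizer {(τ : G)} := by
  classical
  have hz1 : z * z = 1 := by rw [← sq, ← hz, pow_orderOf_eq_one]
  set τ : (centralizer ({z} : Set G)) := ⟨g * z * g⁻¹, hg⟩ with hτdef
  have hτv : (τ : G) = g * z * g⁻¹ := rfl
  have hτ2 : orderOf τ = 2 := by
    rw [← Subgroup.orderOf_coe, hτv, ← hz]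
    exact orderOf_injective (MulAut.conj g).toMonoidHom (MulAut.conj g).injective z
  have hτz : τ ≠ zc := fun e => hne (by rw [← hτv, e, hzc])
  have hτ1 : τ * τ = 1 := by rw [← sq, ← hτ2, pow_orderOf_eq_one]
  obtain ⟨hpos, hdvd⟩ := eight_of_involution hc hn hτ2 hτz
  have hsupn : (π τ).support.card ≤ n := by
    simpa using Finset.card_le_univ (π τ).support
  have h8 : 8 ≤ (π τ).support.card := Nat.le_of_dvd hpos hdvd
  -- the two transvections
  have hx : g⁻¹ * z * g ∈ (centralizer ({z} : Set G)) := by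
    rw [mem_centralizer_singleton_iff] at hg ⊢
    calc g⁻¹ * z * g * z = g⁻¹ * (z * (g * z * g⁻¹)) * g := by group
      _ = g⁻¹ * (g * z * g⁻¹ * z) * g := by rw [hg]
      _ = z * (g⁻¹ * z * g) := by group
  set x : (centralizer ({z} : Set G)) := ⟨g⁻¹ * z * g, hx⟩ with hxdef
  have hxv : (x : G) = g⁻¹ * z * g := rfl
  have hπ1 : ∀ y : (centralizer ({z} : Set G)), y * y = 1 → y ≠ 1 → y ≠ zc → π y ≠ 1 := fun y _ h1 h2 e =>
    (eq_or_of_map_one hc e).elim h1 h2
  have hx1 : x * x = 1 := by
    refine Subtype.ext ?_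
    rw [Subgroup.coe_mul, hxv, Subgroup.coe_one]
    calc g⁻¹ * z * g * (g⁻¹ * z * g) = g⁻¹ * (z * z) * g := by group
      _ = 1 := by rw [hz1]; group
  obtain ⟨k, hk⟩ := exists_conj_mul_z hc hn hx1 (hπ1 x hx1
    (fun e => by
      have : g⁻¹ * z * g = 1 := by rw [← hxv, e]; rfl
      rw [show z = g * (g⁻¹ * z * g) * g⁻¹ by group, this] at hz
      simp at hz)
    (fun e => hne (by
      have h' : g⁻¹ * z * g = z := by rw [← hxv, e, hzc]
      calc g * z * g⁻¹ = g * (g⁻¹ * z * g) * g⁻¹ := by rw [h']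
        _ = z := by group)))
  obtain ⟨l, hl⟩ := exists_conj_mul_z hc hn hτ1 (hπ1 τ hτ1
    (fun e => by rw [e, orderOf_one] at hτ2; omega) hτz)
  have hkG : (k : G) * (g⁻¹ * z * g) * (k : G)⁻¹ = g⁻¹ * z * g * z := by
    have := congrArg Subtype.val hk
    simpa [hxv, hzc] using this
  have hlG : (l : G) * τ * (l : G)⁻¹ = τ * z := by
    have := congrArg Subtype.val hl
    simpa [hzc] using this
  have hkz : (k : G) * z * (k : G)⁻¹ = z := by
    rw [mem_centralizer_singleton_iff.1 k.2, mul_inv_cancel_right]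
  have hlz : (l : G) * z * (l : G)⁻¹ = z := by
    rw [mem_centralizer_singleton_iff.1 l.2, mul_inv_cancel_right]
  have hzτ : z * τ = τ * z := (mem_centralizer_singleton_iff.1 τ.2).symm
  have hτG : (τ : G) * τ = 1 := by rw [← Subgroup.coe_mul, hτ1, Subgroup.coe_one]
  set h : G := g * k * g⁻¹ with hhdef
  have hh1 : h * τ * h⁻¹ = τ := by
    rw [hτv, hhdef]
    calc g * k * g⁻¹ * (g * z * g⁻¹) * (g * k * g⁻¹)⁻¹ = g * ((k : G) * z * (k : G)⁻¹) * g⁻¹ := by
          group
      _ = g * z * g⁻¹ := by rw [hkz]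
  have hh2 : h * z * h⁻¹ = z * τ := by
    rw [hhdef]
    calc g * k * g⁻¹ * z * (g * k * g⁻¹)⁻¹
        = g * ((k : G) * (g⁻¹ * z * g) * (k : G)⁻¹) * g⁻¹ := by group
      _ = z * τ := by rw [hkG, hτv]; group
  set c : G := (l : G) * h with hcdef
  have hc1 : c * z * c⁻¹ = τ := by
    calc (l : G) * h * z * ((l : G) * h)⁻¹ = (l : G) * (h * z * h⁻¹) * (l : G)⁻¹ := by group
      _ = ((l : G) * z * (l : G)⁻¹) * ((l : G) * τ * (l : G)⁻¹) := by rw [hh2]; group
      _ = τ := by rw [hlz, hlG, ← mul_assoc, hzτ, mul_assoc, hz1, mul_one]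
  have hc2 : c * τ * c⁻¹ = τ * z := by
    calc (l : G) * h * τ * ((l : G) * h)⁻¹ = (l : G) * (h * τ * h⁻¹) * (l : G)⁻¹ := by group
      _ = τ * z := by rw [hh1, hlG]
  have hc3 : c * (τ * z) * c⁻¹ = z := by
    calc c * (τ * z) * c⁻¹ = (c * τ * c⁻¹) * (c * z * c⁻¹) := by group
      _ = z := by rw [hc1, hc2, ← hzτ, mul_assoc, hτG, mul_one]
  set S := (centralizer ({z} : Set G)) ⊓ centralizer {(τ : G)} with hS
  have hSmap : S.map (MulAut.conj c).toMonoidHom = S := by
    refine eq_of_le_of_card_ge ?_ ?_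
    · rintro _ ⟨y, ⟨hy1, hy2⟩, rfl⟩
      simp only [MulEquiv.coe_toMonoidHom, MulAut.conj_apply]
      have e1 : Commute y z := mem_centralizer_singleton_iff.1 hy1
      have e2 : Commute y (τ : G) := mem_centralizer_singleton_iff.1 hy2
      have f1 : Commute (c * y * c⁻¹) (τ : G) := by rw [← hc1]; exact e1.conj _
      have f2 : Commute (c * y * c⁻¹) ((τ : G) * z) := by rw [← hc2]; exact e2.conj _
      refine ⟨mem_centralizer_singleton_iff.2 ?_, mem_centralizer_singleton_iff.2 f1.eq⟩
      have := f1.mul_right f2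
      rw [← mul_assoc, hτG, one_mul] at this
      exact this.eq
    · rw [card_map_of_injective (MulAut.conj c).injective]
  have hSH : (centralizer ({τ} : Set (centralizer ({z} : Set G)))).map (centralizer ({z} : Set G)).subtype = S := by
    ext y
    constructor
    · rintro ⟨y, hy, rfl⟩
      exact ⟨y.2, mem_centralizer_singleton_iff.2
        (congrArg Subtype.val (mem_centralizer_singleton_iff.1 hy))⟩
    · rintro ⟨hy1, hy2⟩
      exact ⟨⟨y, hy1⟩, mem_centralizer_singleton_iff.2
        (Subtype.ext (mem_centralizer_singleton_iff.1 hy2)), rfl⟩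
  refine ⟨?_, τ, c, hτ2, hτz, ?_⟩
  swap
  · refine ⟨?_, hc1, hc2, hc3, hSmap⟩
    by_contra h
    have h16 : 9 ≤ (π τ).support.card := by omega
    have h1 := (invTwo_z hc (fun x y => commute_of_disjoint hc)
      (fun x a b c d => sq_double hc hn) (by rw [← map_mul, hτ1, map_one]) (by omega)).map (centralizer ({z} : Set G)).subtype
    rw [hSH, Subgroup.subtype_apply, hzc] at h1
    have h2 := h1.map (MulAut.conj c).toMonoidHom
    rw [hSmap, MulEquiv.coe_toMonoidHom, MulAut.conj_apply, hc1, ← hSH] at h2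
    exact not_invTwo hc hτ1 h16 (InvTwo.of_map (centralizer ({z} : Set G)).subtype_injective h2)
  refine ⟨by omega, ?_⟩
  by_contra h12
  rcases eq_or_ne (π τ).support.card 8 with h | h
  · rcases eq_or_ne n 12 with hn12 | hn12
    · have h1 := (invThree_z hc (fun x y => commute_of_disjoint hc)
        (fun x a b c d => sq_double hc hn) hτ1 h hn12.ge).map (centralizer ({z} : Set G)).subtype (centralizer ({z} : Set G)).subtype_injective
      rw [hSH, Subgroup.subtype_apply, hzc] at h1
      have h2 := h1.map (MulAut.conj c).toMonoidHom (MulAut.conj c).injective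
      rw [hSmap, MulEquiv.coe_toMonoidHom, MulAut.conj_apply, hc1, ← hSH] at h2
      exact not_invThree hc hτ1 h hn12 (InvThree.of_map (centralizer ({z} : Set G)).subtype_injective h2)
    · have h1 := (invFive_z hc (fun x y => commute_of_disjoint hc)
        (fun x a b c d => sq_double hc hn) (t := τ) (by omega)).map (centralizer ({z} : Set G)).subtype
      rw [hSH, Subgroup.subtype_apply, hzc] at h1
      have h2 := h1.map (MulAut.conj c).toMonoidHom
      rw [hSmap, MulEquiv.coe_toMonoidHom, MulAut.conj_apply, hc1, ← hSH] at h2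
      exact not_invFive hτ1 h (InvFive.of_map (centralizer ({z} : Set G)).subtype_injective h2)
  · have h16 : 9 ≤ (π τ).support.card := by omega
    have h1 := (invTwo_z hc (fun x y => commute_of_disjoint hc)
      (fun x a b c d => sq_double hc hn) (by rw [← map_mul, hτ1, map_one]) (by omega)).map (centralizer ({z} : Set G)).subtype
    rw [hSH, Subgroup.subtype_apply, hzc] at h1
    have h2 := h1.map (MulAut.conj c).toMonoidHom
    rw [hSmap, MulEquiv.coe_toMonoidHom, MulAut.conj_apply, hc1, ← hSH] at h2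
    exact not_invTwo hc hτ1 h16 (InvTwo.of_map (centralizer ({z} : Set G)).subtype_injective h2)

end Cfsg.Agent.AltDouble
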