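import Cfsg.Agent.Lib.AltDouble.Defs

/-!
# Invariants separating the central involution in the centraliser of another involution

In a nonsplit double cover of `A_n`, `n ≥ 12`, with central involution `z`, no automorphism of the
centraliser of an involution `t ≠ z` maps `z` to `t`.
-/

set_option autoImplicit false
set_option linter.unusedSectionVars false
set_option linter.style.haveILetI false

namespace Cfsg.Agent.AltDouble.Inv

open Subgroup Equiv
open scoped commutatorElement

universe u v

/-- A root of `a` whose conjugates commute with it up to `a`. -/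
def InvTwo {G : Type u} [Group G] (S : Subgroup G) (a : G) : Prop :=
  ∃ x ∈ S, x * x = a ∧ ∀ h ∈ S, ⁅x, h * x * h⁻¹⁆ = 1 ∨ ⁅x, h * x * h⁻¹⁆ = a

/-- The square of a product of two elements killed by five. -/
def InvFive {G : Type u} [Group G] (S : Subgroup G) (a : G) : Prop :=
  ∃ u ∈ S, ∃ v ∈ S, u ^ 5 = 1 ∧ v ^ 5 = 1 ∧ u * v * (u * v) = a

/-- Two commuting independent elements of order three, each centralised by a root of `a`. -/
def InvThree {G : Type u} [Group G] (S : Subgroup G) (a : G) : Prop :=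
  ∃ u ∈ S, ∃ w ∈ S, ∃ x ∈ S, ∃ y ∈ S, u ^ 3 = 1 ∧ w ^ 3 = 1 ∧ u ≠ 1 ∧ w ≠ 1 ∧ w ≠ u ∧ w ≠ u⁻¹ ∧
    Commute u w ∧ x * x = a ∧ y * y = a ∧ Commute x u ∧ Commute y w

variable {G : Type u} [Group G] {K : Type v} [Group K]

theorem InvTwo.map {S : Subgroup G} {a : G} (h : InvTwo S a) (f : G →* K) :
    InvTwo (S.map f) (f a) := by
  obtain ⟨x, hx, e, h⟩ := h
  refine ⟨f x, mem_map_of_mem f hx, by rw [← map_mul, e], ?_⟩
  rintro _ ⟨k, hk, rfl⟩
  rw [← map_inv, ← map_mul, ← map_mul, ← map_commutatorElement]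
  rcases h k hk with h | h <;> rw [h]
  · exact Or.inl (map_one f)
  · exact Or.inr rfl

theorem InvFive.map {S : Subgroup G} {a : G} (h : InvFive S a) (f : G →* K) :
    InvFive (S.map f) (f a) := by
  obtain ⟨u, hu, v, hv, h1, h2, h3⟩ := h
  exact ⟨f u, mem_map_of_mem f hu, f v, mem_map_of_mem f hv, by rw [← map_pow, h1, map_one],
    by rw [← map_pow, h2, map_one], by simp only [← map_mul, h3]⟩

theorem InvThree.map {S : Subgroup G} {a : G} (h : InvThree S a) (f : G →* K)
    (hf : Function.Injective f) : InvThree (S.map f) (f a) := by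
  obtain ⟨u, hu, w, hw, x, hx, y, hy, h1, h2, h3, h4, h5, h6, h7, h8, h9, h10, h11⟩ := h
  exact ⟨f u, mem_map_of_mem f hu, f w, mem_map_of_mem f hw, f x, mem_map_of_mem f hx, f y,
    mem_map_of_mem f hy, by rw [← map_pow, h1, map_one], by rw [← map_pow, h2, map_one],
    fun e => h3 (hf (e.trans (map_one f).symm)), fun e => h4 (hf (e.trans (map_one f).symm)),
    fun e => h5 (hf e), fun e => h6 (hf (by rw [e, map_inv])), h7.map f, by rw [← map_mul, h8],
    by rw [← map_mul, h9], h10.map f, h11.map f⟩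

/-- An element of odd prime order commuting with one having cycles of length a power of two fixes
every set of points too small for the product of the two lengths. -/
theorem fix_of_small {α : Type u} [DecidableEq α] {P X : Perm α} {s : Finset α} {p q : ℕ}
    (hp : p.Prime) (hpq : Nat.Coprime q p) (hq : 0 < q) (hP : P ^ p = 1) (hX : Commute P X)
    (hPs : ∀ a ∈ s, P a ∈ s) (hXs : ∀ a ∈ s, X a ∈ s)
    (hXq : ∀ a ∈ s, ∀ j : ℕ, (X ^ j) a = a → q ∣ j) (hXq' : ∀ a ∈ s, (X ^ q) a = a)
    (hlt : s.card < p * q) : ∀ a ∈ s, P a = a := by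
  intro a ha
  by_contra hne
  have hPi : ∀ i : ℕ, (P ^ i) a = a → p ∣ i := by
    intro i hi
    by_contra hd
    refine hne ?_
    have hcop : Nat.Coprime i p := ((hp.coprime_iff_not_dvd).2 hd).symm
    obtain ⟨j, -, hj⟩ := Nat.exists_mul_mod_eq_one_of_coprime hcop hp.one_lt
    have e : P ^ (i * j) = P := by
      rw [pow_eq_pow_mod (i * j) hP, hj, pow_one]
    have hfix : ∀ k : ℕ, ((P ^ i) ^ k) a = a := fun k => by
      induction k with
      | zero => simp
      | succ k ih => rw [pow_succ, Perm.mul_apply, hi, ih]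
    rw [← e, pow_mul]
    exact hfix j
  have hmem : ∀ i j : ℕ, (P ^ i * X ^ j) a ∈ s := by
    intro i j
    have h1 : (X ^ j) a ∈ s := by
      induction j with
      | zero => simpa using ha
      | succ j ih => rw [pow_succ', Perm.mul_apply]; exact hXs _ ih
    rw [Perm.mul_apply]
    induction i with
    | zero => simpa using h1
    | succ i ih => rw [pow_succ', Perm.mul_apply]; exact hPs _ ih
  have hkey : ∀ i j : ℕ, (P ^ i * X ^ j) a = a → p ∣ i ∧ q ∣ j := by
    intro i j he
    have hfix : ∀ k : ℕ, ((P ^ i * X ^ j) ^ k) a = a := fun k => by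
      induction k with
      | zero => simp
      | succ k ih => rw [pow_succ, Perm.mul_apply, he, ih]
    have h := hfix p
    rw [(hX.pow_pow i j).mul_pow, ← pow_mul, ← pow_mul, mul_comm i p, pow_mul, hP, one_pow,
      one_mul] at h
    have hj : q ∣ j := hpq.dvd_of_dvd_mul_right (hXq a ha _ h)
    refine ⟨hPi i ?_, hj⟩
    obtain ⟨k, rfl⟩ := hj
    have hk : (X ^ (q * k)) a = a := by
      clear he hfix h
      induction k with
      | zero => simp
      | succ k ih => rw [Nat.mul_succ, pow_add, Perm.mul_apply, hXq' a ha, ih]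
    rwa [Perm.mul_apply, hk] at he
  let g : Fin p × Fin q → α := fun ij => (P ^ (ij.1 : ℕ) * X ^ (ij.2 : ℕ)) a
  have hg : Function.Injective g := by
    rintro ⟨i, j⟩ ⟨i', j'⟩ he
    simp only [g] at he
    have h2 := hkey (p - i + i') (q - j + j') ?_
    · obtain ⟨h1, h2⟩ := h2
      have hi := i.isLt
      have hj := j.isLt
      have hi' := i'.isLt
      have hj' := j'.isLt
      obtain ⟨c1, hc1⟩ := h1
      obtain ⟨c2, hc2⟩ := h2
      have e1 : c1 = 1 := by
        rcases Nat.lt_trichotomy c1 1 with hc | hc | hc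
        · rw [Nat.lt_one_iff.1 hc, mul_zero] at hc1; omega
        · exact hc
        · have := Nat.mul_le_mul (le_refl p) (show 2 ≤ c1 from hc); omega
      have e2 : c2 = 1 := by
        rcases Nat.lt_trichotomy c2 1 with hc | hc | hc
        · rw [Nat.lt_one_iff.1 hc, mul_zero] at hc2; omega
        · exact hc
        · have := Nat.mul_le_mul (le_refl q) (show 2 ≤ c2 from hc); omega
      rw [e1, mul_one] at hc1
      rw [e2, mul_one] at hc2
      exact Prod.ext (Fin.ext (show (i : ℕ) = i' by omega))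
        (Fin.ext (show (j : ℕ) = j' by omega))
    · calc (P ^ (p - i + i') * X ^ (q - j + j')) a
          = (P ^ (p - (i : ℕ)) * X ^ (q - (j : ℕ))) ((P ^ (i' : ℕ) * X ^ (j' : ℕ)) a) := by
            simp only [← Perm.mul_apply]
            congr 1
            rw [pow_add, pow_add]
            exact Commute.mul_mul_mul_comm (hX.pow_pow _ _) _ _
        _ = (P ^ (p - (i : ℕ)) * X ^ (q - (j : ℕ))) ((P ^ (i : ℕ) * X ^ (j : ℕ)) a) := by rw [he]
        _ = a := by
            rw [← Perm.mul_apply, Commute.mul_mul_mul_comm ((hX.pow_pow _ _).symm), ← pow_add,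
              ← pow_add, Nat.sub_add_cancel i.isLt.le, Nat.sub_add_cancel j.isLt.le, hP, one_mul]
            exact hXq' a ha
  have := Finset.card_le_card_of_injOn (s := Finset.univ) (t := s) g (fun ij _ => hmem _ _)
    (fun a _ b _ h => hg h)
  simp only [Finset.card_univ, Fintype.card_prod, Fintype.card_fin] at this
  omega

variable {H : Type u} [Group H] {n : ℕ} {π : H →* Perm (Fin n)} {z t : H}

theorem ker_cases (hc : IsAltCover π z) {x : H} (hx : π x = 1) : x = 1 ∨ x = z := by
  have h : x ∈ zpowers z := hc.ker ▸ MonoidHom.mem_ker.2 hx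
  obtain ⟨k, rfl⟩ := mem_zpowers_iff.1 h
  rw [← zpow_mod_orderOf, hc.order]
  rcases Int.emod_two_eq_zero_or_one k with e | e <;> simp [e]

theorem map_z (hc : IsAltCover π z) : π z = 1 :=
  MonoidHom.mem_ker.1 (hc.ker ▸ mem_zpowers z)

theorem z_central (hc : IsAltCover π z) (x : H) : x * z = z * x :=
  Subgroup.mem_center_iff.1 (hc.center_eq ▸ mem_zpowers z) x

theorem z_ne_one (hc : IsAltCover π z) : z ≠ 1 := fun h => by
  have := hc.order
  rw [h, orderOf_one] at this
  omega

theorem z_sq (hc : IsAltCover π z) : z * z = 1 := by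
  rw [← sq, ← hc.order, pow_orderOf_eq_one]

theorem exists_lift (hc : IsAltCover π z) {p : Perm (Fin n)} (hp : Perm.sign p = 1) :
    ∃ x, π x = p :=
  MonoidHom.mem_range.1 (hc.range ▸ Perm.mem_alternatingGroup.2 hp)

/-- Lifts of odd order. -/
theorem exists_odd_lift (hc : IsAltCover π z) {p : Perm (Fin n)} {j : ℕ} (hj : Odd j)
    (hp : p ^ j = 1) : ∃ u, π u = p ∧ u ^ j = 1 := by
  have hs : Perm.sign p = 1 := by
    rcases Int.units_eq_one_or (Perm.sign p) with h | h
    · exact h
    · exfalso
      have := congrArg Perm.sign hp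
      rw [map_pow, h, map_one, hj.neg_one_pow] at this
      exact absurd this (by decide)
  obtain ⟨x, hx⟩ := exists_lift hc hs
  rcases ker_cases hc (x := x ^ j) (by rw [map_pow, hx, hp]) with h | h
  · exact ⟨x, hx, h⟩
  · refine ⟨x * z, by rw [map_mul, hx, map_z hc, mul_one], ?_⟩
    rw [(show Commute x z from z_central hc x).mul_pow, h]
    obtain ⟨i, rfl⟩ := hj
    rw [pow_succ, pow_mul, sq, z_sq hc, one_pow, one_mul, z_sq hc]

/-- An element of odd order whose image commutes with the image of `t` commutes with `t`. -/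
theorem commute_of_odd (hc : IsAltCover π z) {u : H} {j : ℕ} (hj : Odd j) (hu : u ^ j = 1)
    (h : Commute (π u) (π t)) : Commute u t := by
  rcases ker_cases hc (x := ⁅u, t⁆) (by
    rw [map_commutatorElement, commutatorElement_eq_one_iff_commute]; exact h) with h1 | h1
  · exact commutatorElement_eq_one_iff_commute.1 h1
  · exfalso
    have e : u * t * u⁻¹ = z * t := by
      rw [← h1, commutatorElement_def, inv_mul_cancel_right]
    have hk : ∀ k : ℕ, u ^ k * t * (u ^ k)⁻¹ = z ^ k * t := fun k => by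
      induction k with
      | zero => simp
      | succ k ih =>
        calc u ^ (k + 1) * t * (u ^ (k + 1))⁻¹ = u * (u ^ k * t * (u ^ k)⁻¹) * u⁻¹ := by
              rw [pow_succ', mul_inv_rev]; group
          _ = z ^ k * (u * t * u⁻¹) := by
              rw [ih, ← mul_assoc u, ((show Commute u z from z_central hc u).pow_right k).eq]
              group
          _ = _ := by rw [e, ← mul_assoc, ← pow_succ]
    have := hk j
    rw [hu, one_mul, inv_one, mul_one] at this
    obtain ⟨i, rfl⟩ := hj
    rw [pow_succ, pow_mul, sq, z_sq hc, one_pow, one_mul] at this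
    exact z_ne_one hc (mul_eq_right.1 this.symm)

/-- An element whose image flips two of the transpositions of the image of `t`. -/
theorem exists_flip (hc : IsAltCover π z)
    (hd : ∀ x y : H, (π x).Disjoint (π y) → Commute x y)
    (hs : ∀ x : H, ∀ a b c d : Fin n, [a, b, c, d].Nodup → π x = swap a b * swap c d → x * x = z)
    (hT : π t * π t = 1) {a c : Fin n} (ha : π t a ≠ a) (hcm : π t c ≠ c) (h1 : c ≠ a)
    (h2 : c ≠ π t a) :
    ∃ x, π x = swap a (π t a) * swap c (π t c) ∧ Commute x t ∧ x * x = z := by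
  set T := π t with hTdef
  have hTT : ∀ i, T (T i) = i := fun i => by rw [← Perm.mul_apply, hT, Perm.one_apply]
  have hnd : [a, T a, c, T c].Nodup := by
    have e1 : a ≠ T c := fun e => h2 (by rw [e, hTT])
    have e2 : T a ≠ T c := fun e => h1 (T.injective e).symm
    simp [Ne.symm ha, Ne.symm hcm, Ne.symm h1, Ne.symm h2, e1, e2]
  obtain ⟨x, hx⟩ := exists_lift hc (p := swap a (T a) * swap c (T c))
    (by simp [Perm.sign_mul, Perm.sign_swap (Ne.symm ha), Perm.sign_swap (Ne.symm hcm)])
  refine ⟨x, hx, ?_, hs x _ _ _ _ hnd hx⟩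
  have hdis : (π x).Disjoint (π (x⁻¹ * t)) := by
    intro i
    rw [map_mul, map_inv, hx, ← hTdef, mul_inv_rev, swap_inv, swap_inv]
    simp only [List.nodup_cons, List.mem_cons, List.not_mem_nil, or_false, not_or] at hnd
    by_cases hi : i = a ∨ i = T a ∨ i = c ∨ i = T c
    · right
      obtain ⟨⟨a1, a2, a3⟩, ⟨a4, a5⟩, a6, -⟩ := hnd
      simp only [Perm.mul_apply]
      rcases hi with rfl | rfl | rfl | rfl
      · rw [swap_apply_right, swap_apply_of_ne_of_ne a2 a3]
      · rw [hTT, swap_apply_left, swap_apply_of_ne_of_ne a4 a5]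
      · rw [swap_apply_of_ne_of_ne (Ne.symm a3) (Ne.symm a5), swap_apply_right]
      · rw [hTT, swap_apply_of_ne_of_ne (Ne.symm a2) (Ne.symm a4), swap_apply_left]
    · left
      simp only [not_or] at hi
      rw [Perm.mul_apply, swap_apply_of_ne_of_ne hi.2.2.1 hi.2.2.2,
        swap_apply_of_ne_of_ne hi.1 hi.2.1]
  have := hd _ _ hdis
  simpa using (Commute.refl x).mul_right this

/-- The flips of two transpositions of the same involution commute. -/
theorem flips_commute {α : Type u} {T X Y : Perm α} (hX : ∀ i, X i = i ∨ X i = T i)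
    (hY : ∀ i, Y i = i ∨ Y i = T i) (hXT : Commute X T) (hYT : Commute Y T)
    (hT : T * T = 1) : Commute X Y := by
  refine Perm.ext fun i => ?_
  have hTT : ∀ i, T (T i) = i := fun i => by rw [← Perm.mul_apply, hT, Perm.one_apply]
  have eX : ∀ i, X (T i) = T (X i) := fun i => DFunLike.congr_fun hXT.eq i
  have eY : ∀ i, Y (T i) = T (Y i) := fun i => DFunLike.congr_fun hYT.eq i
  rw [Perm.mul_apply, Perm.mul_apply]
  rcases hX i with h | h <;> rcases hY i with h' | h' <;> simp [h, h', eX, eY, hTT]

/-- The three-cycle of transpositions. -/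
theorem pairCycle_facts {T : Perm (Fin n)} (hT : T * T = 1) {a c e : Fin n}
    (hnd : [a, c, e, T a, T c, T e].Nodup) {h : Perm (Fin n)}
    (hh : h = swap a c * swap c e * (swap (T a) (T c) * swap (T c) (T e))) :
    Commute h T ∧ h ^ 3 = 1 ∧ h a = c ∧ h c = e ∧ h e = a ∧ h (T a) = T c ∧ h (T c) = T e ∧
      h (T e) = T a ∧ ∀ i, i ∉ [a, c, e, T a, T c, T e] → h i = i := by
  simp only [List.nodup_cons, List.mem_cons, List.not_mem_nil, or_false, not_or] at hnd
  obtain ⟨⟨a1, a2, a3, a4, a5⟩, ⟨c2, c3, c4, c5⟩, ⟨e3, e4, e5⟩, ⟨A4, A5⟩, A6, -⟩ := hnd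
  have v1 : h a = c := by
    simp only [hh, Perm.mul_apply]
    rw [swap_apply_of_ne_of_ne a4 a5, swap_apply_of_ne_of_ne a3 a4, swap_apply_of_ne_of_ne a1 a2,
      swap_apply_left]
  have v2 : h c = e := by
    simp only [hh, Perm.mul_apply]
    rw [swap_apply_of_ne_of_ne c4 c5, swap_apply_of_ne_of_ne c3 c4, swap_apply_left,
      swap_apply_of_ne_of_ne (Ne.symm a2) (Ne.symm c2)]
  have v3 : h e = a := by
    simp only [hh, Perm.mul_apply]
    rw [swap_apply_of_ne_of_ne e4 e5, swap_apply_of_ne_of_ne e3 e4, swap_apply_right,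
      swap_apply_right]
  have v4 : h (T a) = T c := by
    simp only [hh, Perm.mul_apply]
    rw [swap_apply_of_ne_of_ne A4 A5, swap_apply_left,
      swap_apply_of_ne_of_ne (Ne.symm c4) (Ne.symm e4),
      swap_apply_of_ne_of_ne (Ne.symm a4) (Ne.symm c4)]
  have v5 : h (T c) = T e := by
    simp only [hh, Perm.mul_apply]
    rw [swap_apply_left, swap_apply_of_ne_of_ne (Ne.symm A5) (Ne.symm A6),
      swap_apply_of_ne_of_ne (Ne.symm c5) (Ne.symm e5),
      swap_apply_of_ne_of_ne (Ne.symm a5) (Ne.symm c5)]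
  have v6 : h (T e) = T a := by
    simp only [hh, Perm.mul_apply]
    rw [swap_apply_right, swap_apply_right,
      swap_apply_of_ne_of_ne (Ne.symm c3) (Ne.symm e3),
      swap_apply_of_ne_of_ne (Ne.symm a3) (Ne.symm c3)]
  have v7 : ∀ i, i ∉ [a, c, e, T a, T c, T e] → h i = i := by
    intro i hi
    simp only [List.mem_cons, List.not_mem_nil, or_false, not_or] at hi
    obtain ⟨i1, i2, i3, i4, i5, i6⟩ := hi
    simp only [hh, Perm.mul_apply]
    rw [swap_apply_of_ne_of_ne i5 i6, swap_apply_of_ne_of_ne i4 i5, swap_apply_of_ne_of_ne i2 i3,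
      swap_apply_of_ne_of_ne i1 i2]
  have hTT : ∀ i, T (T i) = i := fun i => by rw [← Perm.mul_apply, hT, Perm.one_apply]
  refine ⟨Perm.ext fun i => ?_, Perm.ext fun i => ?_, v1, v2, v3, v4, v5, v6, v7⟩
  · rw [Perm.mul_apply, Perm.mul_apply]
    by_cases hi : i ∈ [a, c, e, T a, T c, T e]
    · simp only [List.mem_cons, List.not_mem_nil, or_false] at hi
      rcases hi with rfl | rfl | rfl | rfl | rfl | rfl <;> simp [v1, v2, v3, v4, v5, v6, hTT]
    · have : T i ∉ [a, c, e, T a, T c, T e] := by
        simp only [List.mem_cons, List.not_mem_nil, or_false, not_or] at hi ⊢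
        obtain ⟨i1, i2, i3, i4, i5, i6⟩ := hi
        exact ⟨fun e' => i4 (by rw [← e', hTT]), fun e' => i5 (by rw [← e', hTT]),
          fun e' => i6 (by rw [← e', hTT]), fun e' => i1 (T.injective e'),
          fun e' => i2 (T.injective e'), fun e' => i3 (T.injective e')⟩
      rw [v7 i hi, v7 _ this]
  · rw [pow_succ, pow_two, Perm.mul_apply, Perm.mul_apply, Perm.one_apply]
    by_cases hi : i ∈ [a, c, e, T a, T c, T e]
    · simp only [List.mem_cons, List.not_mem_nil, or_false] at hi
      rcases hi with rfl | rfl | rfl | rfl | rfl | rfl <;> simp [v1, v2, v3, v4, v5, v6]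
    · rw [v7 i hi, v7 i hi, v7 i hi]

/-- The central involution has such a root. -/
theorem invTwo_z (hc : IsAltCover π z)
    (hd : ∀ x y : H, (π x).Disjoint (π y) → Commute x y)
    (hs : ∀ x : H, ∀ a b c d : Fin n, [a, b, c, d].Nodup → π x = swap a b * swap c d → x * x = z)
    (hT : π t * π t = 1) (hcard : 4 ≤ (π t).support.card) :
    InvTwo (centralizer {t}) z := by
  set T := π t with hTdef
  obtain ⟨a, ha⟩ := Finset.card_pos.1 (lt_of_lt_of_le (by norm_num) hcard)
  obtain ⟨c, hcs, hcn⟩ := Finset.exists_mem_notMem_of_card_lt_card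
    (s := {a, T a}) (lt_of_le_of_lt (Finset.card_le_two) (by omega : 2 < T.support.card))
  simp only [Finset.mem_insert, Finset.mem_singleton, not_or] at hcn
  rw [Perm.mem_support] at ha hcs
  obtain ⟨x, hx, hxt, hxx⟩ := exists_flip hc hd hs hT ha hcs hcn.1 hcn.2
  have hTT : ∀ i, T (T i) = i := fun i => by rw [← Perm.mul_apply, hT, Perm.one_apply]
  have hXflip : ∀ i, π x i = i ∨ π x i = T i := by
    intro i
    rw [hx, Perm.mul_apply]
    have e1 : a ≠ T c := fun e => hcn.2 (by rw [e, hTT])
    have e2 : T a ≠ T c := fun e => hcn.1 (T.injective e).symm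
    by_cases h1 : i = c
    · subst h1
      right
      rw [swap_apply_left, swap_apply_of_ne_of_ne (Ne.symm e1) (Ne.symm e2)]
    by_cases h2 : i = T c
    · subst h2
      right
      rw [swap_apply_right, hTT, swap_apply_of_ne_of_ne hcn.1 hcn.2]
    rw [swap_apply_of_ne_of_ne h1 h2]
    by_cases h3 : i = a
    · subst h3
      right
      rw [swap_apply_left]
    by_cases h4 : i = T a
    · subst h4
      right
      rw [swap_apply_right, hTT]
    left
    rw [swap_apply_of_ne_of_ne h3 h4]
  refine ⟨x, mem_centralizer_singleton_iff.2 hxt.eq, hxx, fun h hh => ?_⟩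
  have hht : Commute (π h) T := (show Commute h t from mem_centralizer_singleton_iff.1 hh).map π
  refine ker_cases hc ?_
  rw [map_commutatorElement, commutatorElement_eq_one_iff_commute, map_mul, map_mul, map_inv]
  refine flips_commute hXflip (fun i => ?_) (hxt.map π) ?_ hT
  · rw [Perm.mul_apply, Perm.mul_apply]
    rcases hXflip ((π h)⁻¹ i) with e | e <;> rw [e]
    · exact Or.inl (Equiv.apply_symm_apply _ _)
    · exact Or.inr (by rw [← Perm.mul_apply (π h) T, hht.eq, Perm.mul_apply]; simp)
  · exact (hht.mul_left (hxt.map π)).mul_left hht.inv_left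

/-- An involution moving at least nine points has no such root. -/
theorem not_invTwo (hc : IsAltCover π z) (ht : t * t = 1) (hcard : 9 ≤ (π t).support.card) :
    ¬ InvTwo (centralizer {t}) t := by
  rintro ⟨x, hxt, hxx, hall⟩
  set T := π t with hTdef
  set X := π x with hXdef
  have hT : T * T = 1 := by rw [hTdef, ← map_mul, ht, map_one]
  have hTT : ∀ i, T (T i) = i := fun i => by rw [← Perm.mul_apply, hT, Perm.one_apply]
  have hXX : ∀ i, X (X i) = T i := fun i => by rw [← Perm.mul_apply, hXdef, ← map_mul, hxx]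
  have hXT : ∀ i, X (T i) = T (X i) := fun i => by rw [← hXX, hXX]
  have hne0 : ∀ i, T i ≠ i → X i ≠ i := fun i hi e => hi (by rw [← hXX, e, e])
  have hne : ∀ i, T i ≠ i → X i ≠ i ∧ X i ≠ T i := fun i hi =>
    ⟨hne0 i hi, fun e => hne0 i hi (X.injective ((hXX i).trans e.symm))⟩
  have hsupp : ∀ i, T i ≠ i → T (X i) ≠ X i := fun i hi e => hi (X.injective (by rw [hXT, e]))
  obtain ⟨a, ha⟩ := Finset.card_pos.1 (lt_of_lt_of_le (by norm_num) hcard)
  rw [Perm.mem_support] at ha
  obtain ⟨c, hcs, hcn⟩ := Finset.exists_mem_notMem_of_card_lt_card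
    (s := ([a, T a, X a, T (X a)] : List (Fin n)).toFinset) (t := T.support)
    (lt_of_le_of_lt (List.toFinset_card_le _) (by simp; omega))
  obtain ⟨e, hes, hen⟩ := Finset.exists_mem_notMem_of_card_lt_card
    (s := ([a, T a, X a, T (X a), c, T c, X c, T (X c)] : List (Fin n)).toFinset) (t := T.support)
    (lt_of_le_of_lt (List.toFinset_card_le _) (by simp; omega))
  rw [Perm.mem_support] at hcs hes
  simp only [List.mem_toFinset, List.mem_cons, List.not_mem_nil, or_false, not_or] at hcn hen
  obtain ⟨c1, c2, c3, c4⟩ := hcn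
  obtain ⟨e1, e2, e3, e4, e5, e6, e7, e8⟩ := hen
  have hnd : [a, c, e, T a, T c, T e].Nodup := by
    have h1 : a ≠ T c := fun h => c2 (by rw [h, hTT])
    have h2 : a ≠ T e := fun h => e2 (by rw [h, hTT])
    have h3 : c ≠ T e := fun h => e6 (by rw [h, hTT])
    have h4 : T a ≠ T c := fun h => c1 (T.injective h).symm
    have h5 : T a ≠ T e := fun h => e1 (T.injective h).symm
    have h6 : T c ≠ T e := fun h => e5 (T.injective h).symm
    simp [Ne.symm c1, Ne.symm e1, Ne.symm ha, Ne.symm e5, Ne.symm hcs, Ne.symm hes, h1, h2, h3,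
      h4, h5, h6, c2, e2, e6]
  obtain ⟨hcomm, h3, va, vc, ve, vA, vC, vE, vfix⟩ := pairCycle_facts hT hnd rfl
  set h := swap a c * swap c e * (swap (T a) (T c) * swap (T c) (T e)) with hh
  have vb : h (X a) = X a := by
    refine vfix _ ?_
    simp only [List.mem_cons, List.not_mem_nil, or_false, not_or]
    exact ⟨(hne a ha).1, Ne.symm c3, Ne.symm e3, (hne a ha).2, fun h => c4 (by rw [h, hTT]),
      fun h => e4 (by rw [h, hTT])⟩
  have hXaa : X (X a) = T a := hXX a
  obtain ⟨u, hu, hu3⟩ := exists_odd_lift hc (j := 3) (by decide) h3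
  have hut : Commute u t := commute_of_odd hc (by decide) hu3 (by rw [hu]; exact hcomm)
  have key : ⁅X, h * X * h⁻¹⁆ = 1 ∨ ⁅X, h * X * h⁻¹⁆ = T := by
    rcases hall u (mem_centralizer_singleton_iff.2 hut.eq) with hk | hk
    · exact Or.inl (by rw [← hu, hXdef, ← map_inv, ← map_mul, ← map_mul, ← map_commutatorElement,
        hk, map_one])
    · exact Or.inr (by rw [← hu, hXdef, ← map_inv, ← map_mul, ← map_mul, ← map_commutatorElement,
        hk])
  have hinv : ∀ i j, h i = j → h⁻¹ j = i := fun i j e => by rw [← e]; simp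
  have l : (X * (h * X * h⁻¹)) a = T e := by
    simp only [Perm.mul_apply]
    rw [hinv e a ve]
    have : h (X e) = X e := by
      refine vfix _ ?_
      simp only [List.mem_cons, List.not_mem_nil, or_false, not_or]
      exact ⟨fun h => e4 (by rw [← h, hXX, hTT]), fun h => e8 (by rw [← h, hXX, hTT]),
        (hne e hes).1, fun h => e3 (X.injective (by rw [h, hXX])),
        fun h => e7 (X.injective (by rw [h, hXX])), (hne e hes).2⟩
    rw [this, hXX]
  have r : (h * X * h⁻¹ * X) a = T c := by
    simp only [Perm.mul_apply]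
    rw [hinv _ _ vb, hXaa, vA]
  rcases key with hk | hk
  · rw [commutatorElement_eq_one_iff_mul_comm] at hk
    have := DFunLike.congr_fun hk a
    rw [l, r] at this
    exact e5 (T.injective this)
  · have hk' : X * (h * X * h⁻¹) = T * (h * X * h⁻¹ * X) := by
      rw [← hk, commutatorElement_def]; group
    have := DFunLike.congr_fun hk' a
    rw [l, Perm.mul_apply, r, hTT] at this
    exact e6 (by rw [← hTT e, this])

end Cfsg.Agent.AltDouble.Inv
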