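import Cfsg.Agent.Lib.AltDouble.NineLocal

/-!
# Degree nine: counting the involutions along the cosets of McL
-/

set_option autoImplicit false
set_option linter.unusedSectionVars false
set_option linter.style.haveILetI false

namespace Cfsg.Agent.AltDouble.Nine

open Cfsg Subgroup Equiv

universe u

/-- The involutions of a group with one class of them. -/
theorem card_involutions {H : Type u} [Group H] [Finite H] (a : H) (ha : orderOf a = 2)
    (h : ∀ y : H, orderOf y = 2 → ∃ g, g * a * g⁻¹ = y) :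
    Nat.card {y : H // orderOf y = 2} * Nat.card (centralizer ({a} : Set H)) = Nat.card H := by
  set C := centralizer ({a} : Set H)
  let f : H ⧸ C → {y : H // orderOf y = 2} := fun q => ⟨q.out * a * q.out⁻¹, by
    rw [Involutions.Basic.orderOf_conj, ha]⟩
  have hf : Function.Bijective f := by
    refine ⟨fun p q e => ?_, fun y => ?_⟩
    · rw [← QuotientGroup.out_eq' p, ← QuotientGroup.out_eq' q, QuotientGroup.eq,
        mem_centralizer_singleton_iff]
      have e' := congrArg Subtype.val e
      simp only [f] at e'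
      calc p.out⁻¹ * q.out * a = p.out⁻¹ * (q.out * a * q.out⁻¹) * q.out := by group
        _ = a * (p.out⁻¹ * q.out) := by rw [← e']; group
    · obtain ⟨g, hg⟩ := h y y.2
      refine ⟨g, Subtype.ext ?_⟩
      obtain ⟨c, hc⟩ := QuotientGroup.mk_out_eq_mul C g
      show (g : H ⧸ C).out * a * (g : H ⧸ C).out⁻¹ = y
      rw [hc, ← hg]
      calc g * c * a * (g * c)⁻¹ = g * ((c : H) * a * (c : H)⁻¹) * g⁻¹ := by group
        _ = g * a * g⁻¹ := by rw [mem_centralizer_singleton_iff.1 c.2, mul_inv_cancel_right]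
  rw [← Nat.card_congr (Equiv.ofBijective f hf), ← index_eq_card, index_mul_card]

theorem castSucc_facts : (∀ i : Fin 8, ∃ a : Fin 9, a ≠ 8 ∧ a ≠ i.castSucc) ∧
    ∀ i : Fin 8, i.castSucc ≠ (8 : Fin 9) := by decide

theorem card_seven : Fintype.card {h : Perm (Fin 7) // h * h = 1} = 232 := by decide +kernel

variable {G : Type u} [Group G] [Finite G] (s : Setting G)

/-- All involutions are conjugate. -/
theorem conj_z {y : G} (hy : orderOf y = 2) : ∃ g, g * s.z * g⁻¹ = y := by
  classical
  haveI : Fact (Nat.Prime 2) := ⟨Nat.prime_two⟩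
  have hinC : ∀ u : centralizer ({s.z} : Set G), orderOf u = 2 → ∃ g, g * s.z * g⁻¹ = (u : G) := by
    intro u hu
    rcases eq_or_ne u s.zc with rfl | hne
    · exact ⟨1, by rw [s.hzc]; group⟩
    obtain ⟨h, hh⟩ := exists_conj_fix8 s.hc (by norm_num) (by norm_num) hu hne
    obtain ⟨m, -, hm⟩ := conjM s (z_mem s) (s.hC0 _ hh) (orderOf_z s)
      (by rw [Subgroup.orderOf_coe, Involutions.Basic.orderOf_conj, hu])
    refine ⟨(h : G)⁻¹ * m, ?_⟩
    calc (h : G)⁻¹ * m * s.z * ((h : G)⁻¹ * m)⁻¹ = (h : G)⁻¹ * (m * s.z * m⁻¹) * h := by group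
      _ = _ := by rw [hm]; simp [mul_assoc]
  obtain ⟨P⟩ : Nonempty (Sylow 2 (centralizer ({s.z} : Set G))) := inferInstance
  have hzP : s.zc ∈ (P : Subgroup (centralizer ({s.z} : Set G))) := by
    have hp : IsPGroup 2 (zpowers s.zc) :=
      IsPGroup.of_card (n := 1) (by rw [Nat.card_zpowers, s.hc.order, pow_one])
    obtain ⟨R, hR⟩ := hp.exists_le_sylow
    obtain ⟨g, hg⟩ := MulAction.exists_smul_eq (centralizer ({s.z} : Set G)) R P
    rw [← hg, ← SetLike.mem_coe, Sylow.coe_subgroup_smul]
    exact ⟨s.zc, hR (mem_zpowers _), by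
      show g * s.zc * g⁻¹ = s.zc
      rw [(z_comm s.hc g).eq, mul_inv_cancel_right]⟩
  set P' := (P : Subgroup (centralizer ({s.z} : Set G))).map (centralizer ({s.z} : Set G)).subtype
  obtain ⟨T, hT⟩ := (P.2.map (centralizer ({s.z} : Set G)).subtype).exists_le_sylow
  haveI : Nontrivial (T : Subgroup G) := (Subgroup.nontrivial_iff_exists_ne_one _).2
    ⟨s.z, hT ⟨s.zc, hzP, s.hzc⟩, fun e => by have := orderOf_z s; rw [e, orderOf_one] at this; omega⟩
  haveI := T.2.center_nontrivial
  obtain ⟨u, hu⟩ := exists_prime_orderOf_dvd_card' (G := center (T : Subgroup G)) 2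
    (by
      obtain ⟨k, hk0, hk⟩ := (T.2.to_subgroup (center (T : Subgroup G))).nontrivial_iff_card.1
        inferInstance
      rw [hk]
      exact dvd_pow_self 2 (by omega))
  have huC : ∀ g ∈ (T : Subgroup G), g * ((u : (T : Subgroup G)) : G) = ((u : (T : Subgroup G)) : G) * g :=
    fun g hg => congrArg Subtype.val (mem_center_iff.1 u.2 ⟨g, hg⟩)
  set uc : centralizer ({s.z} : Set G) := ⟨((u : (T : Subgroup G)) : G),
    mem_centralizer_singleton_iff.2 (huC s.z (hT ⟨s.zc, hzP, s.hzc⟩)).symm⟩
  have huo : orderOf uc = 2 := by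
    rw [← Subgroup.orderOf_coe]
    show orderOf ((u : (T : Subgroup G)) : G) = 2
    rw [Subgroup.orderOf_coe, Subgroup.orderOf_coe, hu]
  obtain ⟨g, hg⟩ := hinC uc huo
  -- the Sylow order
  have hTle : Nat.card (T : Subgroup G) ∣ 362880 := by
    rw [← card_C s]
    have h1 : (T : Subgroup G).map (MulAut.conj g⁻¹).toMonoidHom ≤ centralizer ({s.z} : Set G) := by
      rintro _ ⟨x, hx, rfl⟩
      refine mem_centralizer_singleton_iff.2 ?_
      have h := huC x hx
      rw [show ((u : (T : Subgroup G)) : G) = g * s.z * g⁻¹ from hg.symm] at h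
      simp only [MulEquiv.coe_toMonoidHom, MulAut.conj_apply, inv_inv]
      calc g⁻¹ * x * g * s.z = g⁻¹ * (x * (g * s.z * g⁻¹)) * g := by group
        _ = s.z * (g⁻¹ * x * g) := by rw [h]; group
    have hinj : Function.Injective ((MulAut.conj g⁻¹).toMonoidHom : G →* G) :=
      (MulAut.conj g⁻¹).injective
    rw [← card_map_of_injective hinj]
    exact card_dvd_of_le h1
  obtain ⟨k, hk⟩ := IsPGroup.iff_card.1 T.2
  have hk7 : k ≤ 7 := by
    by_contra h
    have h8 : 2 ^ 8 ∣ 362880 := ((pow_dvd_pow 2 (by omega : 8 ≤ k)).trans (hk ▸ hTle))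
    norm_num at h8
  -- a Sylow subgroup inside McL
  obtain ⟨R⟩ : Nonempty (Sylow 2 s.M) := inferInstance
  obtain ⟨T', hT'⟩ := (R.2.map s.M.subtype).exists_le_sylow
  have hR : Nat.card ((R : Subgroup s.M).map s.M.subtype) = 2 ^ 7 := by
    rw [card_map_of_injective s.M.subtype_injective, R.card_eq_multiplicity,
      Nat.card_congr s.e.toEquiv, McLType.card_spor,
      show (898128000 : ℕ) = 2 ^ 7 * 7016625 by norm_num, Nat.factorization_mul (by norm_num)
      (by norm_num), Finsupp.add_apply, Nat.Prime.factorization_pow Nat.prime_two,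
      Finsupp.single_eq_same, Nat.factorization_eq_zero_of_not_dvd (by norm_num)]
  have hT'M : (T' : Subgroup G) ≤ s.M := by
    rw [← eq_of_le_of_card_ge hT' (by
      rw [hR, Nat.card_congr (Sylow.equiv T' T).toEquiv, hk]
      exact Nat.pow_le_pow_right (by norm_num) hk7)]
    exact map_subtype_le _
  obtain ⟨Q, hQ⟩ := (IsPGroup.of_card (n := 1) (G := zpowers y) (p := 2)
    (by rw [Nat.card_zpowers, hy, pow_one])).exists_le_sylow
  obtain ⟨w, hw⟩ := MulAction.exists_smul_eq G Q T'
  have hwy : w * y * w⁻¹ ∈ s.M := hT'M (by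
    rw [← hw, ← SetLike.mem_coe, Sylow.coe_subgroup_smul]
    exact ⟨y, hQ (mem_zpowers y), rfl⟩)
  obtain ⟨m, -, hm⟩ := conjM s (z_mem s) hwy (orderOf_z s)
    (by rw [Involutions.Basic.orderOf_conj, hy])
  refine ⟨w⁻¹ * m, ?_⟩
  calc w⁻¹ * m * s.z * (w⁻¹ * m)⁻¹ = w⁻¹ * (m * s.z * m⁻¹) * w := by group
    _ = y := by rw [hm]; group

/-- The fixed points of `z` are the points of its centraliser. -/
theorem exists_c {x : G ⧸ s.M} (hx : s.z • x = x) :
    ∃ c : centralizer ({s.z} : Set G), x = ((c : G) : G ⧸ s.M) := by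
  obtain ⟨g, rfl⟩ := QuotientGroup.mk_surjective x
  rw [MulAction.Quotient.smul_mk, QuotientGroup.eq, smul_eq_mul] at hx
  have hzz : s.z * s.z = 1 := by rw [← sq, ← orderOf_z s, pow_orderOf_eq_one]
  have hmem : g⁻¹ * s.z * g ∈ s.M := by
    rw [mul_inv_rev, inv_eq_of_mul_eq_one_right hzz] at hx
    exact hx
  obtain ⟨m, hm, he⟩ := conjM s (z_mem s) hmem (orderOf_z s) (by
    rw [show g⁻¹ * s.z * g = g⁻¹ * s.z * (g⁻¹)⁻¹ by group, Involutions.Basic.orderOf_conj,
      orderOf_z s])
  refine ⟨⟨g * m, mem_centralizer_singleton_iff.2 ?_⟩, ?_⟩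
  · calc g * m * s.z = g * (m * s.z * m⁻¹) * m := by group
      _ = s.z * (g * m) := by rw [he]; group
  · refine QuotientGroup.eq.2 ?_
    show g⁻¹ * (g * m) ∈ s.M
    rwa [inv_mul_cancel_left]

theorem smul_base {m : G} (hm : m ∈ s.M) : m • ((1 : G) : G ⧸ s.M) = ((1 : G) : G ⧸ s.M) := by
  rw [MulAction.Quotient.smul_mk, QuotientGroup.eq, smul_eq_mul, mul_one, mul_one]
  exact inv_mem hm

theorem base_iff {g : G} : ((g : G) : G ⧸ s.M) = ((1 : G) : G ⧸ s.M) ↔ g ∈ s.M := by
  rw [QuotientGroup.eq, mul_one, inv_mem_iff]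

/-- A point and the base point have at most one common involution. -/
theorem unique {x : G ⧸ s.M} (hx : x ≠ ((1 : G) : G ⧸ s.M)) {r r' : G} (hr : r ∈ s.M)
    (hr' : r' ∈ s.M) (hr2 : orderOf r = 2) (hr2' : orderOf r' = 2) (hf : r • x = x)
    (hf' : r' • x = x) : r = r' := by
  obtain ⟨m, hm, he⟩ := conjM s (z_mem s) hr (orderOf_z s) hr2
  have hz : s.z • (m⁻¹ • x) = m⁻¹ • x := by
    rw [← mul_smul, show s.z * m⁻¹ = m⁻¹ * r by rw [← he]; group, mul_smul, hf]
  obtain ⟨c, hc⟩ := exists_c s hz
  have hcM : (c : G) ∉ s.M := fun h => hx (by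
    have h' := hc.trans ((base_iff s).2 h)
    rw [inv_smul_eq_iff] at h'
    rw [h', smul_base s hm])
  have h := unique_z s (r := m⁻¹ * r' * m) (mul_mem (mul_mem (inv_mem hm) hr') hm)
    (by rw [show m⁻¹ * r' * m = m⁻¹ * r' * (m⁻¹)⁻¹ by group, Involutions.Basic.orderOf_conj, hr2'])
    c hcM (by
      rw [← hc, ← mul_smul, show m⁻¹ * r' * m * m⁻¹ = m⁻¹ * r' by group, mul_smul, hf'])
  rw [← he, ← h]
  group

/-- The involutions exchanging the base point with the point of an element of the centraliser. -/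
theorem card_even_z {c : centralizer ({s.z} : Set G)} (hc : (c : G) ∉ s.M) :
    Nat.card {t : G // orderOf t = 2 ∧ t • ((1 : G) : G ⧸ s.M) = ((c : G) : G ⧸ s.M)} ≤ 464 := by
  classical
  set x0 : G ⧸ s.M := ((1 : G) : G ⧸ s.M)
  set x : G ⧸ s.M := ((c : G) : G ⧸ s.M)
  have hne : x ≠ x0 := fun e => hc ((base_iff s).1 e)
  set j := s.π c 8
  have hj : j ≠ 8 := fun e => hc ((mem_M_iff s c).2 ((mem_fix8_iff s).2 e))
  have hzx : s.z • x = x := by
    have h := (smul_iff s s.zc c).2 (by rw [map_z s.hc, Perm.one_apply])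
    rwa [s.hzc] at h
  let S := {t : G // orderOf t = 2 ∧ t • x0 = x}
  have htC : ∀ t : S, (t : G) ∈ centralizer ({s.z} : Set G) := by
    rintro ⟨t, ht2, htx⟩
    have htt : t * t = 1 := by rw [← sq, ← ht2, pow_orderOf_eq_one]
    have htx' : t • x = x0 := by rw [← htx, ← mul_smul, htt, one_smul]
    have hmem : t * s.z * t⁻¹ ∈ s.M := by
      rw [← base_iff s, inv_eq_of_mul_eq_one_right htt]
      have : (t * s.z * t) • x0 = x0 := by rw [mul_smul, mul_smul, htx, hzx, htx']
      rw [MulAction.Quotient.smul_mk, smul_eq_mul, mul_one] at this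
      exact this
    have h := unique s hne hmem (z_mem s) (by rw [Involutions.Basic.orderOf_conj, orderOf_z s])
      (orderOf_z s) (by
        rw [inv_eq_of_mul_eq_one_right htt, mul_smul, mul_smul, htx',
          smul_base s (z_mem s), htx]) hzx
    exact mem_centralizer_singleton_iff.2 (mul_inv_eq_iff_eq_mul.1 h)
  let tc : S → centralizer ({s.z} : Set G) := fun t => ⟨t, htC t⟩
  let e : Fin 7 ≃ {i : Fin 9 // i ≠ 8 ∧ i ≠ j} :=
    (Fintype.equivFinOfCardEq (card_two_points j hj)).symm
  have hprop : ∀ t : S, s.π (tc t) * s.π (tc t) = 1 ∧ s.π (tc t) 8 = j ∧ s.π (tc t) j = 8 := by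
    intro t
    have h1 : s.π (tc t) * s.π (tc t) = 1 := by
      rw [← map_mul, show tc t * tc t = 1 from Subtype.ext (by
        show (t : G) * t = 1
        exact Involutions.Basic.inv_sq_one t.2.1), map_one]
    have h2 : s.π (tc t) 8 = j := by
      have h := t.2.2
      rw [MulAction.Quotient.smul_mk, QuotientGroup.eq, smul_eq_mul, mul_one] at h
      have h' := (mem_fix8_iff s).1 ((mem_M_iff s ((tc t)⁻¹ * c)).1 h)
      rw [map_mul, map_inv, Perm.mul_apply, Perm.inv_eq_iff_eq] at h'
      exact h'.symm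
    refine ⟨h1, h2, ?_⟩
    rw [← h2, ← Perm.mul_apply, h1, Perm.one_apply]
  set q : S → Perm (Fin 9) := fun t => s.π (tc t) * swap 8 j
  have hqfix : ∀ t : S, ∀ i : Fin 9, (q t i ≠ 8 ∧ q t i ≠ j) ↔ (i ≠ 8 ∧ i ≠ j) := by
    intro t i
    have h8 : q t 8 = 8 := by simp [q, (hprop t).2.2]
    have hjq : q t j = j := by simp [q, (hprop t).2.1]
    constructor
    · exact fun h => ⟨fun e => h.1 (by rw [e, h8]), fun e => h.2 (by rw [e, hjq])⟩
    · exact fun h => ⟨fun e => h.1 ((q t).injective (e.trans h8.symm)),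
        fun e => h.2 ((q t).injective (e.trans hjq.symm))⟩
  have hq2 : ∀ t : S, q t * q t = 1 := by
    intro t
    obtain ⟨h1, h2, h3⟩ := hprop t
    have hcm : swap 8 j * s.π (tc t) = s.π (tc t) * swap 8 j := by
      refine Perm.ext fun i => ?_
      have := (Perm.mul_apply (s.π (tc t)) (s.π (tc t)) i).symm.trans (DFunLike.congr_fun h1 i)
      simp only [Perm.mul_apply, Perm.one_apply] at this ⊢
      by_cases hi : i = 8
      · subst hi; simp [h2, h3]
      by_cases hi' : i = j
      · subst hi'; simp [h2, h3]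
      rw [swap_apply_of_ne_of_ne hi hi', swap_apply_of_ne_of_ne]
      · exact fun e => hi' (by rw [← this, e, h2])
      · exact fun e => hi (by rw [← this, e, h3])
    calc q t * q t = s.π (tc t) * (swap 8 j * s.π (tc t)) * swap 8 j := by simp [q, mul_assoc]
      _ = (s.π (tc t) * s.π (tc t)) * (swap 8 j * swap 8 j) := by rw [hcm]; simp [mul_assoc]
      _ = 1 := by rw [h1, swap_mul_self, one_mul]
  let F : S → {h : Perm (Fin 7) // h * h = 1} := fun t =>
    ⟨e.symm.permCongr ((q t).subtypePerm (hqfix t)), by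
      refine Perm.ext fun k => e.injective (Subtype.ext ?_)
      simpa [Equiv.permCongr_apply] using DFunLike.congr_fun (hq2 t) (e k : Fin 9)⟩
  haveI : Fintype S := Fintype.ofFinite _
  rw [show Nat.card {t : G // orderOf t = 2 ∧ t • x0 = x} = Fintype.card S from
    Nat.card_eq_fintype_card]
  have hfib : ∀ t t' : S, F t = F t' → t' = t ∨ (t' : G) = t * s.z := by
    intro t t' h
    have hqq : q t = q t' := by
      refine Perm.ext fun i => ?_
      by_cases hi : i ≠ 8 ∧ i ≠ j
      · have := DFunLike.congr_fun (congrArg Subtype.val h) (e.symm ⟨i, hi⟩)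
        simpa [F, Equiv.permCongr_apply] using congrArg (fun k => ((e k) : Fin 9)) this
      · rcases not_and_or.1 hi with h' | h' <;> rw [not_not] at h' <;> subst h'
        · simp [q, (hprop t).2.2, (hprop t').2.2]
        · simp [q, (hprop t).2.1, (hprop t').2.1]
    rcases eq_or_of_map s.hc (mul_right_cancel hqq.symm : s.π (tc t') = s.π (tc t)) with h' | h'
    · exact Or.inl (Subtype.ext (congrArg Subtype.val h' :))
    · refine Or.inr ?_
      have := congrArg Subtype.val h'
      rwa [Subgroup.coe_mul, s.hzc] at this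
  have := Finset.card_le_mul_card_image (f := F) (Finset.univ : Finset S) 2 (fun b hb => by
    obtain ⟨t, -, rfl⟩ := Finset.mem_image.1 hb
    have hsub : (Finset.univ.filter fun t' => F t' = F t) ⊆
        {t} ∪ (Finset.univ.filter fun t' : S => (t' : G) = t * s.z) := fun t' ht' => by
      rcases hfib t t' (Finset.mem_filter.1 ht').2.symm with h | h
      · simp [h]
      · simp [h]
    refine (Finset.card_le_card hsub).trans ((Finset.card_union_le _ _).trans ?_)
    rw [Finset.card_singleton]
    have : (Finset.univ.filter fun t' : S => (t' : G) = t * s.z).card ≤ 1 :=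
      Finset.card_le_one.2 fun a ha b hb => Subtype.ext
        ((Finset.mem_filter.1 ha).2.trans (Finset.mem_filter.1 hb).2.symm)
    omega)
  rw [Finset.card_univ] at this
  refine this.trans ?_
  have h := Finset.card_le_univ ((Finset.univ : Finset S).image F)
  rw [card_seven] at h
  omega

/-- Degree nine is impossible. -/
theorem false_of_setting (hinv : ∀ (D : Subgroup s.M), Odd (Nat.card D) → ∀ φ : D ≃* D,
    (∀ d, φ (φ d) = d) → Nat.card {d : D // φ d = d⁻¹} ≤ 2475) : False := by
  classical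
  haveI : Fintype G := Fintype.ofFinite G
  haveI : Fintype (G ⧸ s.M) := Fintype.ofFinite _
  set x0 : G ⧸ s.M := ((1 : G) : G ⧸ s.M)
  set n := Fintype.card (G ⧸ s.M) with hn
  -- the involutions of the group and of the subgroup
  have hG : Nat.card G = n * 898128000 := by
    rw [← index_mul_card s.M, index_eq_card, Nat.card_eq_fintype_card, ← hn,
      Nat.card_congr s.e.toEquiv, McLType.card_spor]
  have hN : Nat.card {y : G // orderOf y = 2} = 2475 * n := by
    have := card_involutions s.z (orderOf_z s) fun y hy => conj_z s hy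
    rw [card_C s, hG] at this
    omega
  have hNM : Nat.card {y : s.M // orderOf y = 2} = 22275 := by
    have h := card_involutions (⟨s.z, z_mem s⟩ : s.M)
      (by rw [Subgroup.orderOf_mk]; exact orderOf_z s) (fun y hy => by
        obtain ⟨m, hm, he⟩ := conjM s (z_mem s) y.2 (orderOf_z s)
          (by rw [Subgroup.orderOf_coe, hy])
        exact ⟨⟨m, hm⟩, Subtype.ext he⟩)
    have hc : Nat.card (centralizer ({(⟨s.z, z_mem s⟩ : s.M)} : Set s.M)) = 40320 := by
      rw [← card_cent s (z_mem s) (orderOf_z s)]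
      exact Nat.card_congr
        { toFun := fun y => ⟨y.1, mem_centralizer_singleton_iff.2
            (congrArg Subtype.val (mem_centralizer_singleton_iff.1 y.2)), y.1.2⟩
          invFun := fun y => ⟨⟨y.1, y.2.2⟩, mem_centralizer_singleton_iff.2
            (Subtype.ext (mem_centralizer_singleton_iff.1 y.2.1))⟩
          left_inv := fun y => rfl
          right_inv := fun y => rfl }
    rw [hc, Nat.card_congr s.e.toEquiv, McLType.card_spor] at h
    omega
  set I : Finset G := Finset.univ.filter fun t => orderOf t = 2 with hI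
  set F : Finset G := Finset.univ.filter fun t => orderOf t = 2 ∧ t ∉ s.M with hF
  have hsplit : I.card = F.card + (Finset.univ.filter fun t => orderOf t = 2 ∧ t ∈ s.M).card := by
    rw [hI, hF, ← Finset.card_union_of_disjoint]
    · congr 1
      ext t
      simp only [Finset.mem_filter, Finset.mem_union, Finset.mem_univ, true_and]
      tauto
    · exact Finset.disjoint_filter.2 fun t _ h1 h2 => h1.2 h2.2
  have hIc : I.card = 2475 * n := by
    rw [← hN, Nat.card_eq_fintype_card, Fintype.card_subtype]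
  have hMc : (Finset.univ.filter fun t => orderOf t = 2 ∧ t ∈ s.M).card = 22275 := by
    rw [← hNM, ← Fintype.card_subtype, ← Nat.card_eq_fintype_card]
    exact Nat.card_congr
      { toFun := fun y => ⟨⟨y.1, y.2.2⟩, by rw [Subgroup.orderOf_mk]; exact y.2.1⟩
        invFun := fun y => ⟨y.1, by rw [Subgroup.orderOf_coe]; exact y.2, y.1.2⟩
        left_inv := fun y => rfl
        right_inv := fun y => rfl }
  have hsum : F.card = ∑ x ∈ (Finset.univ : Finset (G ⧸ s.M)).erase x0,
      (F.filter fun t => t • x0 = x).card := by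
    refine Finset.card_eq_sum_card_fiberwise fun t ht => ?_
    refine Finset.mem_coe.2 (Finset.mem_erase.2 ⟨fun e => (Finset.mem_filter.1 ht).2.2 ?_,
      Finset.mem_univ _⟩)
    have e' : t • x0 = x0 := e
    rw [MulAction.Quotient.smul_mk, smul_eq_mul, mul_one] at e'
    exact (base_iff s).1 e'
  have hFS : ∀ x, (F.filter fun t => t • x0 = x).card ≤
      Nat.card {t : G // orderOf t = 2 ∧ t • x0 = x} := fun x => by
    rw [Nat.card_eq_fintype_card, Fintype.card_subtype]
    refine Finset.card_le_card fun t ht => ?_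
    simp only [hF, Finset.mem_filter, Finset.mem_univ, true_and] at ht ⊢
    exact ⟨ht.1.1, ht.2⟩
  -- the points without common involutions
  have hall : ∀ x ∈ (Finset.univ : Finset (G ⧸ s.M)).erase x0,
      (F.filter fun t => t • x0 = x).card ≤ 2475 := by
    intro x hx
    have hne : x ≠ x0 := (Finset.mem_erase.1 hx).1
    refine (hFS x).trans ?_
    by_cases heven : ∃ r ∈ s.M, orderOf r = 2 ∧ r • x = x
    · obtain ⟨r, hr, hr2, hrx⟩ := heven
      obtain ⟨m, hm, he⟩ := conjM s (z_mem s) hr (orderOf_z s) hr2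
      have hz : s.z • (m⁻¹ • x) = m⁻¹ • x := by
        rw [← mul_smul, show s.z * m⁻¹ = m⁻¹ * r by rw [← he]; group, mul_smul, hrx]
      obtain ⟨c, hc⟩ := exists_c s hz
      have hcM : (c : G) ∉ s.M := fun h => hne (by
        have h' := hc.trans ((base_iff s).2 h)
        rw [inv_smul_eq_iff] at h'
        rw [h', smul_base s hm])
      refine le_trans ?_ ((card_even_z s hcM).trans (by norm_num))
      rw [← hc]
      refine Nat.card_le_card_of_injective (fun t => ⟨m⁻¹ * t.1 * m, ?_, ?_⟩) fun a b h =>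
        Subtype.ext (by simpa using congrArg Subtype.val h)
      · rw [show m⁻¹ * t.1 * m = m⁻¹ * t.1 * (m⁻¹)⁻¹ by group, Involutions.Basic.orderOf_conj, t.2.1]
      · rw [mul_smul, smul_base s hm, mul_smul, t.2.2]
    · rcases isEmpty_or_nonempty {t : G // orderOf t = 2 ∧ t • x0 = x} with hempty | ⟨t0, ht02, ht0⟩
      · simp
      push Not at heven
      set D : Subgroup s.M := (MulAction.stabilizer G x).subgroupOf s.M with hD
      have ht00 : t0 * t0 = 1 := by rw [← sq, ← ht02, pow_orderOf_eq_one]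
      have ht0x : t0 • x = x0 := by rw [← ht0, ← mul_smul, ht00, one_smul]
      have hodd : Odd (Nat.card D) := by
        rw [← Nat.not_even_iff_odd, even_iff_two_dvd]
        intro h
        haveI : Fact (Nat.Prime 2) := ⟨Nat.prime_two⟩
        obtain ⟨d, hd⟩ := exists_prime_orderOf_dvd_card' (G := D) 2 h
        exact heven _ (d : s.M).2 (by rw [Subgroup.orderOf_coe, Subgroup.orderOf_coe, hd]) d.2
      have ht0inv : t0⁻¹ = t0 := inv_eq_of_mul_eq_one_right ht00
      have hstab : ∀ g : G, g • x0 = x0 → g ∈ s.M := fun g e => by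
        rw [MulAction.Quotient.smul_mk, smul_eq_mul, mul_one] at e
        exact (base_iff s).1 e
      have hconj : ∀ d : D, t0 * ((d : s.M) : G) * t0 ∈ s.M ∧
          (t0 * ((d : s.M) : G) * t0) • x = x := fun d => by
        refine ⟨hstab _ ?_, ?_⟩
        · rw [mul_smul, mul_smul, ht0, show ((d : s.M) : G) • x = x from d.2, ht0x]
        · rw [mul_smul, mul_smul, ht0x, smul_base s (d : s.M).2, ht0]
      let φ0 : D → D := fun d => ⟨⟨_, (hconj d).1⟩, (hconj d).2⟩
      have hφ2 : ∀ d, φ0 (φ0 d) = d := fun d => Subtype.ext (Subtype.ext (by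
        show t0 * (t0 * ((d : s.M) : G) * t0) * t0 = _
        simp only [← mul_assoc, ht00, one_mul]
        rw [mul_assoc, ht00, mul_one]))
      let φ : D ≃* D :=
        { toFun := φ0
          invFun := φ0
          left_inv := hφ2
          right_inv := hφ2
          map_mul' := fun a b => Subtype.ext (Subtype.ext (by
            show t0 * (((a : s.M) : G) * (b : s.M)) * t0 =
              t0 * ((a : s.M) : G) * t0 * (t0 * ((b : s.M) : G) * t0)
            simp only [mul_assoc]
            rw [← mul_assoc t0 t0, ht00, one_mul])) }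
      refine le_trans ?_ (hinv D hodd φ hφ2)
      have hmem : ∀ t : {t : G // orderOf t = 2 ∧ t • x0 = x},
          t0 * t.1 ∈ s.M ∧ (t0 * t.1) • x = x := fun t => by
        have htt : t.1 * t.1 = 1 := Involutions.Basic.inv_sq_one t.2.1
        have htx : t.1 • x = x0 := (congrArg (t.1 • ·) t.2.2.symm).trans
          (by rw [← mul_smul, htt, one_smul])
        exact ⟨hstab _ (by rw [mul_smul, t.2.2, ht0x]), by rw [mul_smul, htx, ht0]⟩
      refine Nat.card_le_card_of_injective
        (fun t => ⟨⟨⟨_, (hmem t).1⟩, (hmem t).2⟩, Subtype.ext (Subtype.ext ?_)⟩) fun a b h =>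
        Subtype.ext (mul_left_cancel (congrArg (fun d => (((d.1 : D) : s.M) : G)) h))
      have htt : t.1 * t.1 = 1 := Involutions.Basic.inv_sq_one t.2.1
      show t0 * (t0 * t.1) * t0 = (t0 * t.1)⁻¹
      rw [← mul_assoc t0 t0, ht00, one_mul, mul_inv_rev, ht0inv, inv_eq_of_mul_eq_one_right htt]
  -- sixteen points with few involutions
  obtain ⟨r, hr, hr2, hrz⟩ : ∃ r ∈ s.M, orderOf r = 2 ∧ r ≠ s.z := by
    by_contra h
    push Not at h
    haveI : Subsingleton {y : s.M // orderOf y = 2} := ⟨fun a b => Subtype.ext (Subtype.ext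
      ((h _ a.1.2 (by rw [Subgroup.orderOf_coe, a.2])).trans
        (h _ b.1.2 (by rw [Subgroup.orderOf_coe, b.2])).symm))⟩
    have := Finite.card_le_one_iff_subsingleton.2 this
    omega
  obtain ⟨m, hm, he⟩ := conjM s (z_mem s) hr (orderOf_z s) hr2
  have hc : ∀ i : Fin 8, ∃ c : centralizer ({s.z} : Set G), s.π c 8 = i.castSucc := by
    intro i
    obtain ⟨a, ha⟩ := castSucc_facts.1 i
    obtain ⟨c, hc⟩ := exists_lift s.hc (σ := swap i.castSucc a * swap a 8) (by
      rw [map_mul, Perm.sign_swap ha.2.symm, Perm.sign_swap ha.1]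
      rfl)
    exact ⟨c, by rw [hc, Perm.mul_apply, swap_apply_right, swap_apply_right]⟩
  choose c hc using hc
  have hcM : ∀ i, (c i : G) ∉ s.M := fun i h => by
    have := (mem_fix8_iff s).1 ((mem_M_iff s (c i)).1 h)
    rw [hc i] at this
    exact castSucc_facts.2 i this
  let P : Bool × Fin 8 → G ⧸ s.M := fun bi =>
    (bif bi.1 then m else 1) • (((c bi.2 : G)) : G ⧸ s.M)
  have hbm : ∀ b : Bool, (bif b then m else 1) ∈ s.M := fun b => by
    cases b
    · exact one_mem _
    · exact hm
  have hP0 : ∀ bi, P bi ≠ x0 := fun bi e => by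
    have h' : ((c bi.2 : G) : G ⧸ s.M) = x0 := by
      rw [← inv_smul_smul (bif bi.1 then m else 1) ((c bi.2 : G) : G ⧸ s.M)]
      show _ • P bi = x0
      rw [e, smul_base s (inv_mem (hbm bi.1))]
    exact hcM _ ((base_iff s).1 h')
  have hzfix : ∀ i, s.z • ((c i : G) : G ⧸ s.M) = ((c i : G) : G ⧸ s.M) := fun i => by
    have h := (smul_iff s s.zc (c i)).2 (by rw [map_z s.hc, Perm.one_apply])
    rwa [s.hzc] at h
  have hPinj : Function.Injective P := by
    have hci : ∀ i i', ((c i : G) : G ⧸ s.M) = ((c i' : G) : G ⧸ s.M) → i = i' := fun i i' h => by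
      rw [QuotientGroup.eq] at h
      have h' := (mem_fix8_iff s).1 ((mem_M_iff s ((c i)⁻¹ * c i')).1 h)
      rw [map_mul, map_inv, Perm.mul_apply, Perm.inv_eq_iff_eq, hc, hc] at h'
      exact (Fin.castSucc_injective 8 h').symm
    have hboth : ∀ i, s.z • P (true, i) = P (true, i) → False := fun i h => hrz
      (unique s (hP0 _) hr (z_mem s) hr2 (orderOf_z s) (by
        show r • m • _ = m • _
        rw [← mul_smul, ← he, inv_mul_cancel_right, mul_smul, hzfix]) h)
    rintro ⟨b, i⟩ ⟨b', i'⟩ h
    cases b <;> cases b'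
    · rw [hci i i' (by simpa [P] using h)]
    · refine (hboth i' ?_).elim
      rw [← h]
      simpa [P] using hzfix i
    · refine (hboth i ?_).elim
      rw [h]
      simpa [P] using hzfix i'
    · rw [hci i i' (MulAction.injective m (by simpa [P] using h))]
  have hsmall : ∀ bi, (F.filter fun t => t • x0 = P bi).card ≤ 464 := by
    rintro ⟨b, i⟩
    refine (hFS _).trans (le_trans ?_ (card_even_z s (hcM i)))
    set g := bif b then m else 1 with hg
    have hgM : g ∈ s.M := hbm b
    refine Nat.card_le_card_of_injective (fun t => ⟨g⁻¹ * t.1 * g, ?_, ?_⟩) fun a b h =>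
      Subtype.ext (by simpa using congrArg Subtype.val h)
    · rw [show g⁻¹ * t.1 * g = g⁻¹ * t.1 * (g⁻¹)⁻¹ by group, Involutions.Basic.orderOf_conj, t.2.1]
    · rw [mul_smul, smul_base s hgM, mul_smul, t.2.2]
      exact inv_smul_smul g _
  set E := (Finset.univ : Finset (Bool × Fin 8)).image P with hE
  have hEc : E.card = 16 := by
    rw [hE, Finset.card_image_of_injective _ hPinj]; rfl
  have hEsub : E ⊆ (Finset.univ : Finset (G ⧸ s.M)).erase x0 := fun x hx => by
    obtain ⟨bi, -, rfl⟩ := Finset.mem_image.1 hx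
    exact Finset.mem_erase.2 ⟨hP0 bi, Finset.mem_univ _⟩
  rw [← Finset.sum_sdiff hEsub] at hsum
  have h1 := Finset.sum_le_card_nsmul (((Finset.univ : Finset (G ⧸ s.M)).erase x0) \ E) _ 2475
    fun x hx => hall x (Finset.mem_sdiff.1 hx).1
  have h2 := Finset.sum_le_card_nsmul E (fun x => (F.filter fun t => t • x0 = x).card) 464
    fun x hx => by
      obtain ⟨bi, -, rfl⟩ := Finset.mem_image.1 hx
      exact hsmall bi
  rw [smul_eq_mul, Finset.card_sdiff_of_subset hEsub, hEc,
    Finset.card_erase_of_mem (Finset.mem_univ _), Finset.card_univ, ← hn] at h1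
  rw [smul_eq_mul, hEc] at h2
  have hn16 := Finset.card_le_card hEsub
  rw [hEc, Finset.card_erase_of_mem (Finset.mem_univ _), Finset.card_univ, ← hn] at hn16
  omega

end Cfsg.Agent.AltDouble.Nine
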