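import Cfsg.Agent.Lib.McLType.Top
import Cfsg.Agent.GroupStructure3.McLOut.Orbit

/-!
# An element of order seven of McL centralises the abelian subgroups of odd order it normalises
-/

set_option autoImplicit false
set_option linter.unusedSectionVars false
set_option linter.style.haveILetI false

namespace Cfsg.Agent.AltDouble.Nine

open Cfsg Subgroup
open Cfsg.Agent.GroupStructure3.McLOut (A Adj card_A card_inf clique_le not_seven_adj)

universe u

local notation "GG" => Cfsg.Agent.LeechAut.McL.G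

/-- A group of order 729 is not normalised by an element of order seven. -/
theorem not_729 (P : Subgroup GG) (hP : Nat.card P = 729) (y : GG) (hy : orderOf y = 7)
    (hn : ∀ a ∈ P, y * a * y⁻¹ ∈ P) : False := by
  classical
  haveI : Fact (Nat.Prime 3) := ⟨Nat.prime_three⟩
  haveI : Fact (Nat.Prime 7) := ⟨by norm_num⟩
  haveI : Finite GG := Nat.finite_of_card_ne_zero (by rw [LeechAut.McL.card_G]; norm_num)
  set F := MulAction.fixedPoints P A with hF
  have hmod := (IsPGroup.of_card (p := 3) (n := 6) (G := P)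
    (by rw [hP]; norm_num)).card_modEq_card_fixedPoints A
  rw [card_A] at hmod
  have h2 : 1 < Nat.card F := by
    have : 275 % 3 = Nat.card F % 3 := hmod
    omega
  have hadj : ∀ a ∈ F, ∀ b ∈ F, a ≠ b → Adj a b := by
    intro a ha b hb hab
    by_contra h
    have hd : Nat.card P ∣ 20160 := ((card_inf hab).resolve_left fun h' => h h'.1).2 ▸
      card_dvd_of_le (le_inf (fun p hp => ha ⟨p, hp⟩) fun p hp => hb ⟨p, hp⟩)
    rw [hP] at hd
    norm_num at hd
  have hinv : ∀ a ∈ F, y • a ∈ F := by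
    intro a ha p
    show (p : GG) • y • a = y • a
    have hmem : y⁻¹ * p * y ∈ P := by
      have hpow : ∀ k : ℕ, ∀ q ∈ P, y ^ k * q * (y ^ k)⁻¹ ∈ P := fun k => by
        induction k with
        | zero => intro q hq; simpa using hq
        | succ k ih =>
          intro q hq
          have := hn _ (ih q hq)
          rwa [pow_succ', show y * y ^ k * q * (y * y ^ k)⁻¹ = y * (y ^ k * q * (y ^ k)⁻¹) * y⁻¹ by
            group]
      have h6 := hpow 6 p p.2
      have h7 : y ^ 7 = 1 := hy ▸ pow_orderOf_eq_one y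
      rwa [show y ^ 6 = y⁻¹ from eq_inv_of_mul_eq_one_left (by rw [← pow_succ]; exact h7),
        inv_inv] at h6
    have h := ha ⟨_, hmem⟩
    rw [Subgroup.mk_smul] at h
    rw [← mul_smul, show (p : GG) * y = y * (y⁻¹ * p * y) by group, mul_smul, h]
  have hfix : ∀ a ∈ F, y • a = a := by
    intro a ha
    have hsub : MulAction.orbit (zpowers y) a ⊆ F := by
      rintro _ ⟨⟨g, hg⟩, rfl⟩
      obtain ⟨k, rfl⟩ : ∃ k : ℕ, y ^ k = g :=
        ((isOfFinOrder_of_finite y).mem_powers_iff_mem_zpowers.2 hg)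
      show (y ^ k) • a ∈ F
      clear hg
      induction k with
      | zero => simpa using ha
      | succ k ih => rw [pow_succ', mul_smul]; exact hinv _ ih
    have hle := (Set.ncard_le_ncard hsub (Set.toFinite _)).trans (clique_le hadj)
    have h := Subgroup.index_mul_card (MulAction.stabilizer (zpowers y) a)
    rw [MulAction.index_stabilizer, Nat.card_zpowers, hy] at h
    rcases (Nat.dvd_prime (by norm_num : Nat.Prime 7)).1 ⟨_, h.symm⟩ with h' | h'
    · obtain ⟨b, hb⟩ := Set.ncard_eq_one.1 h'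
      have h1 : a ∈ MulAction.orbit (zpowers y) a := MulAction.mem_orbit_self a
      have h2 : y • a ∈ MulAction.orbit (zpowers y) a := ⟨⟨y, mem_zpowers y⟩, rfl⟩
      rw [hb, Set.mem_singleton_iff] at h1 h2
      exact h2.trans h1.symm
    · omega
  haveI := Finite.one_lt_card_iff_nontrivial.1 h2
  obtain ⟨⟨a, ha⟩, ⟨b, hb⟩, hne⟩ := exists_pair_ne F
  exact not_seven_adj (hadj a ha b hb fun e => hne (Subtype.ext e)) hy (hfix a ha) (hfix b hb)

/-- The possible orders of a subgroup and of its fixed points under an element of order seven. -/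
theorem exponents : ∀ pk ∈ [(3, 6), (5, 3), (7, 1), (11, 1)], ∀ k ≤ pk.2, ∀ j ≤ k,
    (pk.1 : ℕ) ^ k % 7 = pk.1 ^ j % 7 → j = k ∨ (pk.1 = 3 ∧ k = 6) := by
  decide

variable {M : Type u} [Group M] [Finite M]

/-- An element of order seven centralises every abelian subgroup of odd order it normalises. -/
theorem centralises (e : M ≃* ↥Spor.McL) (O : Subgroup M) (hab : ∀ a ∈ O, ∀ b ∈ O, Commute a b)
    (hO : Odd (Nat.card O)) (y : M) (hy : orderOf y = 7) (hn : ∀ a ∈ O, y * a * y⁻¹ ∈ O) :
    ∀ a ∈ O, Commute y a := by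
  classical
  suffices h : O ≤ centralizer ({y} : Set M) from fun a ha =>
    (mem_centralizer_singleton_iff.1 (h ha)).symm
  set C := O ⊓ centralizer ({y} : Set M) with hC
  suffices h : Nat.card O ∣ Nat.card C by
    rw [← eq_of_le_of_card_ge (inf_le_left : C ≤ O) (Nat.le_of_dvd Nat.card_pos h)]
    exact inf_le_right
  refine (Nat.dvd_iff_prime_pow_dvd_dvd (Nat.card C) (Nat.card O)).2 fun p k hp hk => ?_
  rcases Nat.eq_zero_or_pos k with rfl | hk0
  · simp
  haveI : Fact p.Prime := ⟨hp⟩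
  haveI : IsMulCommutative O := ⟨⟨fun a b => Subtype.ext (hab a a.2 b b.2)⟩⟩
  obtain ⟨S⟩ : Nonempty (Sylow p O) := inferInstance
  haveI : (S : Subgroup O).Normal := ⟨fun a ha g => by
    rwa [show g * a * g⁻¹ = a by rw [IsMulCommutative.is_comm.comm g a, mul_inv_cancel_right]]⟩
  haveI : Subsingleton (Sylow p O) := Sylow.unique_of_normal S inferInstance |>.instSubsingleton
  set P := (S : Subgroup O).map O.subtype with hPdef
  have hPO : P ≤ O := map_subtype_le _
  have hPn : ∀ a ∈ P, y * a * y⁻¹ ∈ P := by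
    rintro _ ⟨a, ha, rfl⟩
    set b : O := ⟨y * a * y⁻¹, hn a a.2⟩
    have hb : IsPGroup p (zpowers b) := by
      obtain ⟨i, hi⟩ := IsPGroup.iff_orderOf.1 S.2 ⟨a, ha⟩
      refine IsPGroup.of_card (n := i) ?_
      rw [Nat.card_zpowers, ← hi, ← Subgroup.orderOf_coe b, ← Subgroup.orderOf_coe,
        ← Subgroup.orderOf_coe]
      exact Involutions.Basic.orderOf_conj _ _
    obtain ⟨R, hR⟩ := hb.exists_le_sylow
    rw [Subsingleton.elim R S] at hR
    exact ⟨b, hR (mem_zpowers b), rfl⟩
  have hcardP : Nat.card P = p ^ (Nat.card O).factorization p := by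
    rw [hPdef, card_map_of_injective O.subtype_injective, S.card_eq_multiplicity]
  have hkle : k ≤ (Nat.card O).factorization p :=
    (hp.pow_dvd_iff_le_factorization Nat.card_pos.ne').1 hk
  suffices h : P ≤ C by
    refine dvd_trans (pow_dvd_pow p hkle) (hcardP ▸ card_dvd_of_le h)
  obtain ⟨m, hm⟩ : ∃ m, m = (Nat.card O).factorization p := ⟨_, rfl⟩
  rw [← hm] at hcardP hkle
  have hdvd : p ^ m ∣ 898128000 := by
    rw [← McLType.card_spor, ← Nat.card_congr e.toEquiv, ← hcardP]
    exact card_subgroup_dvd_card P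
  have hodd : p ≠ 2 := by
    rintro rfl
    exact Nat.not_even_iff_odd.2 hO
      (even_iff_two_dvd.2 ((dvd_pow_self 2 hk0.ne').trans hk))
  have hpk : ∃ b, (p, b) ∈ [(3, 6), (5, 3), (7, 1), (11, 1)] ∧ m ≤ b := by
    have h1 : p ∣ 2 ^ 7 * 3 ^ 6 * 5 ^ 3 * 7 * 11 := (dvd_pow_self p (by omega : m ≠ 0)).trans hdvd
    have hcases : p = 3 ∨ p = 5 ∨ p = 7 ∨ p = 11 := by
      rcases (Nat.Prime.dvd_mul hp).1 h1 with h1 | h1
      · rcases (Nat.Prime.dvd_mul hp).1 h1 with h1 | h1
        · rcases (Nat.Prime.dvd_mul hp).1 h1 with h1 | h1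
          · rcases (Nat.Prime.dvd_mul hp).1 h1 with h1 | h1
            · exact absurd ((Nat.prime_dvd_prime_iff_eq hp Nat.prime_two).1
                (hp.dvd_of_dvd_pow h1)) hodd
            · exact Or.inl ((Nat.prime_dvd_prime_iff_eq hp Nat.prime_three).1
                (hp.dvd_of_dvd_pow h1))
          · exact Or.inr (Or.inl ((Nat.prime_dvd_prime_iff_eq hp (by norm_num)).1
              (hp.dvd_of_dvd_pow h1)))
        · exact Or.inr (Or.inr (Or.inl ((Nat.prime_dvd_prime_iff_eq hp (by norm_num)).1 h1)))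
      · exact Or.inr (Or.inr (Or.inr ((Nat.prime_dvd_prime_iff_eq hp (by norm_num)).1 h1)))
    have hb : ∀ b, ¬ p ^ (b + 1) ∣ 898128000 → m ≤ b := fun b hb => by
      by_contra hlt
      exact hb ((pow_dvd_pow p (by omega : b + 1 ≤ m)).trans hdvd)
    rcases hcases with rfl | rfl | rfl | rfl
    · exact ⟨6, by simp, hb 6 (by norm_num)⟩
    · exact ⟨3, by simp, hb 3 (by norm_num)⟩
    · exact ⟨1, by simp, hb 1 (by norm_num)⟩
    · exact ⟨1, by simp, hb 1 (by norm_num)⟩
  haveI : Fact (Nat.Prime 7) := ⟨by norm_num⟩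
  -- the fixed points
  let σ0 : P → P := fun a => ⟨y * a * y⁻¹, hPn a a.2⟩
  have hσb : Function.Bijective σ0 := (Finite.injective_iff_bijective).1 fun a b h =>
    Subtype.ext (by simpa [σ0] using h)
  set σ : Equiv.Perm P := Equiv.ofBijective σ0 hσb with hσ
  haveI : Fintype P := Fintype.ofFinite _
  have hpow : ∀ i : ℕ, ∀ a : P, ((σ ^ i) a : M) = y ^ i * a * (y ^ i)⁻¹ := by
    intro i
    induction i with
    | zero => simp
    | succ i ih =>
      intro a
      rw [pow_succ', Equiv.Perm.mul_apply]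
      show y * ((σ ^ i) a : M) * y⁻¹ = _
      rw [ih, pow_succ']
      group
  have hσ7 : σ ^ 7 ^ 1 = 1 := Equiv.ext fun a => Subtype.ext (by
    rw [hpow, pow_one, ← hy, pow_orderOf_eq_one]; simp)
  have hmodp := Equiv.Perm.card_compl_support_modEq hσ7
  set C' := P ⊓ centralizer ({y} : Set M) with hC'
  have hfixc : σ.supportᶜ.card = Nat.card C' := by
    rw [← Nat.card_eq_finsetCard]
    refine Nat.card_congr
      { toFun := fun a => ⟨(a.1 : M), a.1.2, mem_centralizer_singleton_iff.2 ?_⟩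
        invFun := fun a => ⟨⟨a.1, a.2.1⟩, ?_⟩
        left_inv := fun a => rfl
        right_inv := fun a => rfl }
    · have h := a.2
      rw [Finset.mem_compl, Equiv.Perm.notMem_support] at h
      have h' := congrArg Subtype.val h
      exact (mul_inv_eq_iff_eq_mul.1 (show y * (a.1 : M) * y⁻¹ = a.1 from h')).symm
    · rw [Finset.mem_compl, Equiv.Perm.notMem_support]
      refine Subtype.ext ?_
      show y * (a.1 : M) * y⁻¹ = a.1
      rw [← mem_centralizer_singleton_iff.1 a.2.2, mul_inv_cancel_right]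
  rw [hfixc, ← Nat.card_eq_fintype_card, hcardP] at hmodp
  obtain ⟨j, hjm, hj⟩ := (Nat.dvd_prime_pow hp).1 (hcardP ▸ card_dvd_of_le (inf_le_left : C' ≤ P))
  rw [hj] at hmodp
  obtain ⟨b, hb, hmb⟩ := hpk
  rcases exponents _ hb m hmb j hjm hmodp.symm with hjeq | ⟨hp3, hm6⟩
  · rw [hjeq] at hj
    have := eq_of_le_of_card_ge (inf_le_left : C' ≤ P) (by rw [hj, hcardP])
    exact fun a ha => ⟨hPO ha, ((SetLike.ext_iff.1 this a).2 ha).2⟩
  · exfalso
    obtain ⟨E⟩ := GroupStructure3.McLOut.nonempty_equiv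
    set f : M ≃* GG := e.trans E
    refine not_729 (P.map f.toMonoidHom) ?_ (f y) (by rw [MulEquiv.orderOf_eq, hy]) ?_
    · rw [card_map_of_injective f.injective, hcardP]
      simp only at hp3
      rw [hp3, hm6]
      rfl
    · rintro _ ⟨a, ha, rfl⟩
      exact ⟨y * a * y⁻¹, hPn a ha, by simp⟩

end Cfsg.Agent.AltDouble.Nine
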