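import Cfsg.Agent.Lib.AltDouble.Basic
import Cfsg.Agent.Lib.AltDouble.NineSeven
import Cfsg.Agent.Lib.McLType.Fusion

/-!
# Degree nine: a point and the base point have at most one common involution
-/

set_option autoImplicit false
set_option linter.unusedSectionVars false
set_option linter.style.haveILetI false

namespace Cfsg.Agent.AltDouble.Nine

open Cfsg Subgroup Equiv

universe u

/-- The data: the cover of degree nine and a subgroup McL containing the point stabiliser. -/
structure Setting (G : Type u) [Group G] where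
  z : G
  π : centralizer ({z} : Set G) →* Perm (Fin 9)
  zc : centralizer ({z} : Set G)
  hzc : (zc : G) = z
  hc : IsAltCover π zc
  M : Subgroup G
  e : M ≃* ↥Spor.McL
  hC0 : ∀ c : centralizer ({z} : Set G), c ∈ fix8 π → (c : G) ∈ M

variable {G : Type u} [Group G] [Finite G] (s : Setting G)

theorem z_mem : s.z ∈ s.M := by
  have := s.hC0 s.zc (mem_fix8.2 fun i _ => by rw [map_z s.hc, Perm.one_apply])
  rwa [s.hzc] at this

theorem orderOf_z : orderOf s.z = 2 := by
  rw [← s.hzc, Subgroup.orderOf_coe, s.hc.order]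

/-- The order of the centraliser. -/
theorem card_C : Nat.card (centralizer ({s.z} : Set G)) = 362880 := by
  rw [card_eq_card_quotient_mul_card_subgroup s.π.ker,
    Nat.card_congr (QuotientGroup.quotientKerEquivRange s.π).toEquiv, s.hc.range, s.hc.ker,
    Nat.card_zpowers, s.hc.order]
  have h := two_mul_nat_card_alternatingGroup (α := Fin 9)
  rw [Nat.card_perm, Nat.card_fin, show Nat.factorial 9 = 362880 from rfl] at h
  omega

/-- Two involutions of the subgroup are conjugate in it. -/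
theorem conjM {a b : G} (ha : a ∈ s.M) (hb : b ∈ s.M) (ha2 : orderOf a = 2) (hb2 : orderOf b = 2) :
    ∃ h ∈ s.M, h * a * h⁻¹ = b := by
  obtain ⟨c, hc⟩ := isConj_iff.1 (S2132.result.1 (s.e ⟨a, ha⟩) (s.e ⟨b, hb⟩)
    (by rw [MulEquiv.orderOf_eq, Subgroup.orderOf_mk, ha2])
    (by rw [MulEquiv.orderOf_eq, Subgroup.orderOf_mk, hb2]))
  refine ⟨(s.e.symm c : s.M), (s.e.symm c).2, ?_⟩
  have h := congrArg s.e.symm hc
  rw [map_mul, map_mul, map_inv, s.e.symm_apply_apply, s.e.symm_apply_apply] at h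
  exact congrArg Subtype.val h

/-- The centraliser in the subgroup of an involution has order 40320. -/
theorem card_cent {a : G} (ha : a ∈ s.M) (ha2 : orderOf a = 2) :
    Nat.card ↥(centralizer ({a} : Set G) ⊓ s.M) = 40320 := by
  haveI : Finite ↥Spor.McL := Nat.finite_of_card_ne_zero (by rw [McLType.card_spor]; norm_num)
  obtain ⟨h1, t, ht, hcov⟩ := S2132.result
  obtain ⟨c, hc⟩ := isConj_iff.1 (h1 t (s.e ⟨a, ha⟩) ht
    (by rw [MulEquiv.orderOf_eq, Subgroup.orderOf_mk, ha2]))
  rw [← McLType.card_of_cover hcov]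
  let f : ↥Spor.McL ≃* ↥Spor.McL := MulAut.conj c
  have hf : f t = s.e ⟨a, ha⟩ := hc
  have hF : ∀ x : centralizer ({t} : Set ↥Spor.McL),
      ((s.e.symm (f x) : s.M) : G) ∈ centralizer ({a} : Set G) ⊓ s.M := fun x => by
    refine ⟨mem_centralizer_singleton_iff.2 ?_, (s.e.symm (f x)).2⟩
    have h := congrArg (fun y => s.e.symm (f y)) (mem_centralizer_singleton_iff.1 x.2)
    simp only [map_mul, hf, s.e.symm_apply_apply] at h
    exact congrArg Subtype.val h
  have hF' : ∀ x : ↥(centralizer ({a} : Set G) ⊓ s.M),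
      f.symm (s.e ⟨x.1, x.2.2⟩) ∈ centralizer ({t} : Set ↥Spor.McL) := fun x => by
    refine mem_centralizer_singleton_iff.2 (f.injective ?_)
    rw [map_mul, map_mul, f.apply_symm_apply, hf, ← map_mul, ← map_mul]
    exact congrArg s.e (Subtype.ext (mem_centralizer_singleton_iff.1 x.2.1))
  exact (Nat.card_congr
    { toFun := fun x => ⟨_, hF x⟩
      invFun := fun x => ⟨_, hF' x⟩
      left_inv := fun x => Subtype.ext (f.injective
        ((f.apply_symm_apply _).trans (s.e.apply_symm_apply (f x.1))))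
      right_inv := fun x => Subtype.ext (by simp) }).symm

theorem mem_M_iff (c : centralizer ({s.z} : Set G)) : (c : G) ∈ s.M ↔ c ∈ fix8 s.π := by
  refine ⟨fun h => ?_, s.hC0 c⟩
  have hle : (fix8 s.π).map (centralizer ({s.z} : Set G)).subtype ≤
      centralizer ({s.z} : Set G) ⊓ s.M := by
    rintro _ ⟨d, hd, rfl⟩
    exact ⟨d.2, s.hC0 d hd⟩
  have hcard : Nat.card (fix8 s.π) = 40320 := McLType.card_of_cover (cover_fix8 s.hc (by norm_num))
  have heq := eq_of_le_of_card_ge hle (by
    rw [card_cent s (z_mem s) (orderOf_z s), card_map_of_injective (Subgroup.subtype_injective _),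
      hcard])
  obtain ⟨d, hd, he⟩ : (c : G) ∈ (fix8 s.π).map (centralizer ({s.z} : Set G)).subtype :=
    heq ▸ ⟨c.2, h⟩
  rwa [← Subtype.ext he]

theorem mem_fix8_iff {c : centralizer ({s.z} : Set G)} : c ∈ fix8 s.π ↔ s.π c 8 = 8 := by
  rw [mem_fix8]
  refine ⟨fun h => h 8 le_rfl, fun h i hi => ?_⟩
  have : i = 8 := Fin.ext (by have := i.2; show (i : ℕ) = 8; omega)
  rw [this, h]

/-- An element of the centraliser fixes the point of `c` exactly if it fixes the image of 8. -/
theorem smul_iff (h c : centralizer ({s.z} : Set G)) :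
    (h : G) • ((c : G) : G ⧸ s.M) = ((c : G) : G ⧸ s.M) ↔ s.π h (s.π c 8) = s.π c 8 := by
  rw [MulAction.Quotient.smul_mk, QuotientGroup.eq, smul_eq_mul]
  have e : ((h : G) * c)⁻¹ * c = ((c⁻¹ * h⁻¹ * c : centralizer ({s.z} : Set G)) : G) := by
    simp [mul_assoc]
  rw [e, mem_M_iff, mem_fix8_iff, map_mul, map_mul, map_inv, map_inv, Perm.mul_apply,
    Perm.mul_apply, Perm.inv_eq_iff_eq, Perm.inv_eq_iff_eq]
  exact eq_comm

/-- Two commuting involutions fixing the point of an element of the centraliser outside. -/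
theorem unique_commute {r : G} (hr : r ∈ s.M) (hr2 : orderOf r = 2) (hrz : Commute r s.z)
    (c : centralizer ({s.z} : Set G)) (hc : (c : G) ∉ s.M)
    (hfix : r • ((c : G) : G ⧸ s.M) = ((c : G) : G ⧸ s.M)) : r = s.z := by
  classical
  by_contra hne
  set r' : centralizer ({s.z} : Set G) := ⟨r, mem_centralizer_singleton_iff.2 hrz.eq⟩
  have h8 : s.π r' 8 = 8 := (mem_fix8_iff s).1 ((mem_M_iff s r').1 hr)
  have hj : s.π r' (s.π c 8) = s.π c 8 := (smul_iff s r' c).1 hfix
  obtain ⟨hpos, hdvd⟩ := eight_of_involution s.hc (by norm_num) (x := r')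
    (by rw [← Subgroup.orderOf_coe]; exact hr2) (fun e => hne (by
      have := congrArg Subtype.val e
      rwa [s.hzc] at this))
  have h := Nat.le_of_dvd hpos hdvd
  have hne8 : s.π c 8 ≠ 8 := fun e => hc ((mem_M_iff s c).2 ((mem_fix8_iff s).2 e))
  have hsub : (s.π r').support ⊆ (Finset.univ.erase 8).erase (s.π c 8) := fun i hi => by
    rw [Perm.mem_support] at hi
    simp only [Finset.mem_erase, Finset.mem_univ, and_true]
    exact ⟨fun e => hi (e ▸ hj), fun e => hi (e ▸ h8)⟩
  have := Finset.card_le_card hsub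
  rw [Finset.card_erase_of_mem (Finset.mem_erase.2 ⟨hne8, Finset.mem_univ _⟩),
    Finset.card_erase_of_mem (Finset.mem_univ _), Finset.card_univ, Fintype.card_fin] at this
  omega

theorem card_two_points : ∀ j : Fin 9, j ≠ 8 →
    Fintype.card {i : Fin 9 // i ≠ 8 ∧ i ≠ j} = 7 := by decide

theorem seven_cycle : (finRotate 7) ^ 7 = 1 ∧ Perm.sign (finRotate 7) = 1 ∧
    Perm.sign (swap (0 : Fin 7) 1 * swap 2 3) = 1 ∧ finRotate 7 0 ≠ 0 := by decide +kernel

/-- The other involution of the subgroup does not fix the point. -/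
theorem unique_z {r : G} (hr : r ∈ s.M) (hr2 : orderOf r = 2) (c : centralizer ({s.z} : Set G))
    (hc : (c : G) ∉ s.M) (hfix : r • ((c : G) : G ⧸ s.M) = ((c : G) : G ⧸ s.M)) : r = s.z := by
  classical
  set x : G ⧸ s.M := ((c : G) : G ⧸ s.M) with hx
  set D : Subgroup G := s.M ⊓ MulAction.stabilizer G x with hD
  have hzD : s.z ∈ D := ⟨z_mem s, MulAction.mem_stabilizer_iff.2 (by
    have h := (smul_iff s s.zc c).2 (by rw [map_z s.hc, Perm.one_apply])
    rwa [s.hzc] at h)⟩
  have hrD : r ∈ D := ⟨hr, hfix⟩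
  set zD : D := ⟨s.z, hzD⟩ with hzDdef
  have hiso : IsIsolatedInvolution zD := by
    refine ⟨by rw [← Subgroup.orderOf_coe]; exact orderOf_z s, fun g hg => ?_⟩
    refine Subtype.ext (unique_commute s (g * zD * g⁻¹).2.1 ?_ (hg.symm.map D.subtype) c hc
      (g * zD * g⁻¹).2.2)
    show orderOf ((g : G) * s.z * (g : G)⁻¹) = 2
    rw [Involutions.Basic.orderOf_conj, orderOf_z s]
  have hsup := ZStar.InvariantSylow.oddCore_sup_centralizer hiso
  set O : Subgroup G := (oddCore D).map D.subtype with hOdef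
  have hOD : O ≤ D := map_subtype_le _
  have hOn : ∀ g ∈ D, ∀ a ∈ O, g * a * g⁻¹ ∈ O := by
    rintro g hg _ ⟨a, ha, rfl⟩
    exact ⟨⟨g, hg⟩ * a * ⟨g, hg⟩⁻¹, (inferInstance : (oddCore D).Normal).conj_mem a ha _, rfl⟩
  have hOodd : Odd (Nat.card O) := by
    rw [hOdef, card_map_of_injective D.subtype_injective]
    exact InvChar.Core.odd_card_oddCore
  -- the stabiliser of the two points
  set j := s.π c 8 with hjdef
  have hj : j ≠ 8 := fun e => hc ((mem_M_iff s c).2 ((mem_fix8_iff s).2 e))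
  let f : Fin 7 ≃ {i : Fin 9 // i ≠ 8 ∧ i ≠ j} :=
    (Fintype.equivFinOfCardEq (card_two_points j hj)).symm
  let ι : alternatingGroup (Fin 7) →* Perm (Fin 9) :=
    (Perm.extendDomainHom f).comp (alternatingGroup (Fin 7)).subtype
  have hιapp : ∀ a : alternatingGroup (Fin 7),
      ι a = Perm.extendDomainHom f (a : Perm (Fin 7)) := fun a => rfl
  have hι : Function.Injective ι :=
    (Perm.extendDomainHom_injective f).comp (alternatingGroup (Fin 7)).subtype_injective
  have hιfix : ∀ a, ι a 8 = 8 ∧ ι a j = j := fun a =>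
    ⟨Perm.extendDomain_apply_not_subtype _ f (by simp),
      Perm.extendDomain_apply_not_subtype _ f (by simp)⟩
  have hιsign : ∀ a, Perm.sign (ι a) = 1 := fun a => by
    show Perm.sign ((a : Perm (Fin 7)).extendDomain f) = 1
    rw [Perm.sign_extendDomain]
    exact Perm.mem_alternatingGroup.1 a.2
  have hlift : ∀ h : centralizer ({s.z} : Set G), s.π h 8 = 8 → s.π h j = j → (h : G) ∈ D :=
    fun h h1 h2 => ⟨(mem_M_iff s h).2 ((mem_fix8_iff s).2 h1),
      MulAction.mem_stabilizer_iff.2 ((smul_iff s h c).2 h2)⟩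
  haveI : IsSimpleGroup (alternatingGroup (Fin 7)) := alternatingGroup.isSimpleGroup (by simp)
  -- invariant subgroups of the image
  have hnormal : ∀ L : Subgroup (centralizer ({s.z} : Set G)),
      (∀ h : centralizer ({s.z} : Set G), (h : G) ∈ D → ∀ l ∈ L, h * l * h⁻¹ ∈ L) →
      (L.map s.π).comap ι = ⊥ ∨ (L.map s.π).comap ι = ⊤ := by
    intro L hL
    refine Subgroup.Normal.eq_bot_or_eq_top ⟨fun a ha g => ?_⟩
    obtain ⟨l, hl, he⟩ := ha
    obtain ⟨h, hh⟩ := exists_lift s.hc (hιsign g)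
    refine ⟨h * l * h⁻¹, hL h (hlift h (by rw [hh]; exact (hιfix g).1)
      (by rw [hh]; exact (hιfix g).2)) l hl, ?_⟩
    rw [map_mul, map_mul, map_inv, he, hh, map_mul, map_mul, map_inv]
  -- the centraliser of z in the core
  have hfree : ∀ a ∈ O, Commute a s.z → a = 1 := by
    set L : Subgroup (centralizer ({s.z} : Set G)) :=
      O.comap (centralizer ({s.z} : Set G)).subtype with hL
    have hLn : ∀ h : centralizer ({s.z} : Set G), (h : G) ∈ D → ∀ l ∈ L, h * l * h⁻¹ ∈ L :=
      fun h hh l hl => hOn _ hh _ hl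
    have hLodd : ∀ l ∈ L, Odd (orderOf (s.π l)) := fun l hl => by
      refine Odd.of_dvd_nat ?_ (orderOf_map_dvd s.π l)
      rw [← Subgroup.orderOf_coe]
      exact hOodd.of_dvd_nat (O.orderOf_dvd_natCard hl)
    have hbot : (L.map s.π).comap ι = ⊥ := by
      refine (hnormal L hLn).resolve_right fun h => ?_
      obtain ⟨l, hl, he⟩ : (⟨swap 0 1 * swap 2 3, Perm.mem_alternatingGroup.2 seven_cycle.2.2.1⟩ :
          alternatingGroup (Fin 7)) ∈ (L.map s.π).comap ι := h ▸ mem_top _
      have h2 := hLodd l hl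
      rw [he, orderOf_injective ι hι, ← Subgroup.orderOf_coe] at h2
      have h3 : orderOf (swap (0 : Fin 7) 1 * swap 2 3) = 2 :=
        orderOf_eq_prime (by decide +kernel) (by decide +kernel)
      rw [h3] at h2
      exact Nat.not_even_iff_odd.2 h2 even_two
    intro a ha haz
    set l : centralizer ({s.z} : Set G) := ⟨a, mem_centralizer_singleton_iff.2 haz.eq⟩
    have hlD : (l : G) ∈ D := hOD ha
    have h8 : s.π l 8 = 8 := (mem_fix8_iff s).1 ((mem_M_iff s l).1 hlD.1)
    have hlj : s.π l j = j := (smul_iff s l c).1 hlD.2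
    have hp : ∀ i : Fin 9, (i ≠ 8 ∧ i ≠ j) ↔ (s.π l i ≠ 8 ∧ s.π l i ≠ j) := fun i => by
      constructor
      · exact fun h => ⟨fun e => h.1 ((s.π l).injective (e.trans h8.symm)),
          fun e => h.2 ((s.π l).injective (e.trans hlj.symm))⟩
      · exact fun h => ⟨fun e => h.1 (by rw [e, h8]), fun e => h.2 (by rw [e, hlj])⟩
    set q : Perm {i : Fin 9 // i ≠ 8 ∧ i ≠ j} := (s.π l).subtypePerm fun i => (hp i).symm
    have hext : (f.symm.permCongr q).extendDomain f = s.π l := by
      refine Perm.ext fun i => ?_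
      by_cases hi : i ≠ 8 ∧ i ≠ j
      · rw [Perm.extendDomain_apply_subtype _ f hi]
        simp [q, Equiv.permCongr_apply]
      · rw [Perm.extendDomain_apply_not_subtype _ f hi]
        rcases not_and_or.1 hi with h | h <;> rw [not_not] at h <;> subst h
        · exact h8.symm
        · exact hlj.symm
    have hs : Perm.sign (f.symm.permCongr q) = 1 := by
      rw [← Perm.sign_extendDomain _ f, hext]
      exact sign_map s.hc l
    have hmem : (⟨f.symm.permCongr q, Perm.mem_alternatingGroup.2 hs⟩ : alternatingGroup (Fin 7)) ∈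
        (L.map s.π).comap ι := ⟨l, ha, hext.symm⟩
    rw [hbot, mem_bot] at hmem
    have h1 : s.π l = 1 := by
      have h' : f.symm.permCongr q = 1 := congrArg Subtype.val hmem
      rw [← hext, h']
      exact map_one (Perm.extendDomainHom f)
    rcases eq_or_of_map_one s.hc h1 with h | h
    · exact congrArg Subtype.val h
    · exfalso
      have hez : a = s.z := (congrArg Subtype.val h).trans s.hzc
      have := hOodd.of_dvd_nat (O.orderOf_dvd_natCard ha)
      rw [hez, orderOf_z s] at this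
      exact Nat.not_even_iff_odd.2 this even_two
  have hzz : s.z * s.z = 1 := by rw [← sq, ← orderOf_z s, pow_orderOf_eq_one]
  have hzinv : s.z⁻¹ = s.z := inv_eq_of_mul_eq_one_right hzz
  let φ : O →* O :=
    { toFun := fun a => ⟨s.z * a * s.z⁻¹, hOn _ hzD _ a.2⟩
      map_one' := Subtype.ext (by simp)
      map_mul' := fun a b => Subtype.ext (by simp [mul_assoc]) }
  have hab : ∀ a ∈ O, ∀ b ∈ O, Commute a b := by
    intro a ha b hb
    have hff : MonoidHom.FixedPointFree φ := fun g hg => Subtype.ext (hfree g g.2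
      (mul_inv_eq_iff_eq_mul.1 (congrArg Subtype.val hg)).symm)
    have h := hff.commute_all_of_involutive (fun g => Subtype.ext (by
      show s.z * (s.z * g * s.z⁻¹) * s.z⁻¹ = g
      simp [hzinv, ← mul_assoc, hzz]
      rw [mul_assoc, hzz, mul_one])) ⟨a, ha⟩ ⟨b, hb⟩
    exact congrArg Subtype.val h.eq
  -- the centraliser of the core in the stabiliser
  set K : Subgroup (centralizer ({s.z} : Set G)) :=
    (centralizer (O : Set G)).comap (centralizer ({s.z} : Set G)).subtype with hK
  have hKn : ∀ h : centralizer ({s.z} : Set G), (h : G) ∈ D → ∀ l ∈ K, h * l * h⁻¹ ∈ K := by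
    intro h hh l hl
    rw [hK, mem_comap, mem_centralizer_iff] at hl ⊢
    intro a ha
    show a * ((h : G) * l * (h : G)⁻¹) = (h : G) * l * (h : G)⁻¹ * a
    have h' := hl _ (hOn _ (inv_mem hh) a ha)
    rw [inv_inv] at h'
    have := congrArg (fun g => (h : G) * g * (h : G)⁻¹) h'
    simpa [mul_assoc] using this
  set y7 : alternatingGroup (Fin 7) := ⟨finRotate 7, Perm.mem_alternatingGroup.2 seven_cycle.2.1⟩
  obtain ⟨y0, hy0⟩ := exists_lift s.hc (hιsign y7)
  obtain ⟨y, hy, hy7⟩ : ∃ y, s.π y = ι y7 ∧ y ^ 7 = 1 := by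
    have h7 : s.π (y0 ^ 7) = 1 := by
      rw [map_pow, hy0, ← map_pow, show y7 ^ 7 = 1 from Subtype.ext seven_cycle.1, map_one]
    rcases eq_or_of_map_one s.hc h7 with h | h
    · exact ⟨y0, hy0, h⟩
    · refine ⟨y0 * s.zc, by rw [map_mul, hy0, map_z s.hc, mul_one], ?_⟩
      rw [(z_comm s.hc y0).mul_pow, h, show (7 : ℕ) = 2 * 3 + 1 by rfl, pow_succ, pow_mul, sq,
        z_sq s.hc, one_pow, one_mul, z_sq s.hc]
  have hyD : (y : G) ∈ D := hlift y (by rw [hy]; exact (hιfix y7).1) (by rw [hy]; exact (hιfix y7).2)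
  have hy1 : y7 ≠ 1 := fun e => seven_cycle.2.2.2 (by
    have := DFunLike.congr_fun (congrArg Subtype.val e) 0
    simpa [y7] using this)
  have hyK : y ∈ K := by
    have ho : orderOf y = 7 := by
      haveI : Fact (Nat.Prime 7) := ⟨by norm_num⟩
      exact orderOf_eq_prime hy7 fun e => hy1 (hι (by rw [← hy, e, map_one, map_one]))
    rw [hK, mem_comap, mem_centralizer_iff]
    intro a ha
    have h := centralises s.e (O.subgroupOf s.M)
      (fun a ha b hb => Subtype.ext (hab a ha b hb).eq)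
      (by rw [Nat.card_congr (subgroupOfEquivOfLe (hOD.trans inf_le_left)).toEquiv]; exact hOodd)
      ⟨y, hyD.1⟩ (by rw [Subgroup.orderOf_mk, Subgroup.orderOf_coe, ho])
      (fun a ha => hOn _ hyD _ ha) ⟨a, (hOD ha).1⟩ ha
    exact (congrArg Subtype.val h.eq).symm
  have htop : (K.map s.π).comap ι = ⊤ := (hnormal K hKn).resolve_left fun h => hy1 (by
    rw [← mem_bot, ← h]
    exact ⟨y, hyK, hy⟩)
  obtain ⟨l, hl, he⟩ : (⟨swap 0 1 * swap 2 3, Perm.mem_alternatingGroup.2 seven_cycle.2.2.1⟩ :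
      alternatingGroup (Fin 7)) ∈ (K.map s.π).comap ι := htop ▸ mem_top _
  have hsw : ∀ a b : Fin 7, Perm.extendDomainHom f (swap a b) = swap (f a : Fin 9) (f b) :=
    fun a b => by
      refine Perm.ext fun i => ?_
      show (swap a b).extendDomain f i = _
      by_cases hi : i ≠ 8 ∧ i ≠ j
      · obtain ⟨k, rfl⟩ : ∃ k, (f k : Fin 9) = i := ⟨f.symm ⟨i, hi⟩, by simp⟩
        rw [Perm.extendDomain_apply_image]
        exact ((Subtype.val_injective.comp f.injective).swap_apply a b k).symm
      · rw [Perm.extendDomain_apply_not_subtype _ f hi, swap_apply_of_ne_of_ne]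
        · exact fun e => hi (e ▸ (f a).2)
        · exact fun e => hi (e ▸ (f b).2)
  have hzK : l * l = s.zc := by
    refine sq_double s.hc (by norm_num) (a := (f 0 : Fin 9)) (b := f 1) (c := f 2) (d := f 3)
      ((List.nodup_map_iff (Subtype.val_injective.comp f.injective)).2
        (by decide : [(0 : Fin 7), 1, 2, 3].Nodup)) ?_
    rw [he, hιapp]
    have hm := map_mul (Perm.extendDomainHom f) (swap (0 : Fin 7) 1) (swap 2 3)
    rw [hsw, hsw] at hm
    exact hm
  have hzcent : s.z ∈ centralizer (O : Set G) := by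
    rw [← s.hzc, ← hzK]
    exact (mul_mem hl hl : l * l ∈ K)
  have hObot : oddCore D = ⊥ := by
    rw [eq_bot_iff]
    intro a ha
    refine mem_bot.2 (Subtype.ext (hfree a ⟨a, ha, rfl⟩ ?_))
    exact mem_centralizer_iff.1 hzcent a ⟨a, ha, rfl⟩
  rw [hObot, bot_sup_eq] at hsup
  have hcomm : (⟨r, hrD⟩ : D) * zD = zD * ⟨r, hrD⟩ :=
    mem_centralizer_singleton_iff.1 (hsup ▸ mem_top (⟨r, hrD⟩ : D))
  exact unique_commute s hr hr2 (congrArg Subtype.val hcomm) c hc hfix

end Cfsg.Agent.AltDouble.Nine
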