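import Cfsg.Agent.Lib.AltDouble.Fusion
import Cfsg.Agent.Lib.AltDouble.InvariantEight
import Cfsg.Agent.Lib.McLType.Top

/-!
# Degree ten: the centraliser induces an outer involution on McL
-/

set_option autoImplicit false
set_option linter.unusedSectionVars false
set_option linter.style.haveILetI false

namespace Cfsg.Agent.AltDouble.Ten

open Cfsg Subgroup Equiv

universe u v

variable {H : Type u} [Group H] [Finite H] {n : ℕ} {π : H →* Perm (Fin n)} {zc t : H}

/-- An element commuting with `t` and exchanging two fixed points of its image. -/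
theorem exists_exchange (hc : IsAltCover π zc) (ht : t * t = 1) (hcard : 4 ≤ (π t).support.card)
    {p q : Fin n} (hp : π t p = p) (hq : π t q = q) (hpq : p ≠ q) :
    ∃ x, Commute x t ∧ π x p = q ∧ π x q = p := by
  classical
  set T := π t with hTdef
  have hT : T * T = 1 := by rw [hTdef, ← map_mul, ht, map_one]
  have hTT : ∀ i, T (T i) = i := fun i => by rw [← Perm.mul_apply, hT, Perm.one_apply]
  obtain ⟨a, ha⟩ := Finset.card_pos.1 (by omega : 0 < T.support.card)
  obtain ⟨b, hbs, hbn⟩ := Finset.exists_mem_notMem_of_card_lt_card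
    (s := ([a, T a] : List (Fin n)).toFinset) (t := T.support)
    (lt_of_le_of_lt (List.toFinset_card_le _) (by simp; omega))
  rw [Perm.mem_support] at ha hbs
  simp only [List.mem_toFinset, List.mem_cons, List.not_mem_nil, or_false, not_or] at hbn
  obtain ⟨b1, b2⟩ := hbn
  have hfm : ∀ i, T i = i → i ≠ a ∧ i ≠ b ∧ i ≠ T a ∧ i ≠ T b := fun i hi =>
    ⟨fun e => ha (e ▸ hi), fun e => hbs (e ▸ hi),
      fun e => ha (by rw [e, hTT] at hi; exact hi.symm),
      fun e => hbs (by rw [e, hTT] at hi; exact hi.symm)⟩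
  have hTab : T a ≠ T b := fun e => b1 (T.injective e).symm
  have haTb : a ≠ T b := fun e => b2 (by rw [e, hTT])
  set Q := swap a b * swap b (T a) * swap (T a) (T b) with hQ
  set P := swap p q * Q with hP
  obtain ⟨x, hx⟩ := exists_lift hc (σ := P) (by
    rw [hP, hQ]
    simp [Perm.sign_mul, Perm.sign_swap hpq, Perm.sign_swap (Ne.symm b1), Perm.sign_swap b2,
      Perm.sign_swap hTab])
  have hQfix : ∀ i, i ≠ a → i ≠ b → i ≠ T a → i ≠ T b → Q i = i := fun i h1 h2 h3 h4 => by
    rw [hQ, Perm.mul_apply, Perm.mul_apply, swap_apply_of_ne_of_ne h3 h4,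
      swap_apply_of_ne_of_ne h2 h3, swap_apply_of_ne_of_ne h1 h2]
  have q1 : Q a = b := by
    rw [hQ, Perm.mul_apply, Perm.mul_apply, swap_apply_of_ne_of_ne (Ne.symm ha) haTb,
      swap_apply_of_ne_of_ne (Ne.symm b1) (Ne.symm ha), swap_apply_left]
  have q2 : Q b = T a := by
    rw [hQ, Perm.mul_apply, Perm.mul_apply, swap_apply_of_ne_of_ne b2 (Ne.symm hbs),
      swap_apply_left, swap_apply_of_ne_of_ne ha (Ne.symm b2)]
  have q3 : Q (T a) = T b := by
    rw [hQ, Perm.mul_apply, Perm.mul_apply, swap_apply_left,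
      swap_apply_of_ne_of_ne hbs (Ne.symm hTab), swap_apply_of_ne_of_ne (Ne.symm haTb) hbs]
  have q4 : Q (T b) = a := by
    rw [hQ, Perm.mul_apply, Perm.mul_apply, swap_apply_right, swap_apply_right, swap_apply_right]
  obtain ⟨p1, p2, p3, p4⟩ := hfm p hp
  obtain ⟨r1, r2, r3, r4⟩ := hfm q hq
  have P1 : P a = b := by rw [hP, Perm.mul_apply, q1, swap_apply_of_ne_of_ne p2.symm r2.symm]
  have P2 : P b = T a := by rw [hP, Perm.mul_apply, q2, swap_apply_of_ne_of_ne p3.symm r3.symm]
  have P3 : P (T a) = T b := by rw [hP, Perm.mul_apply, q3, swap_apply_of_ne_of_ne p4.symm r4.symm]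
  have P4 : P (T b) = a := by rw [hP, Perm.mul_apply, q4, swap_apply_of_ne_of_ne p1.symm r1.symm]
  have Pp : P p = q := by rw [hP, Perm.mul_apply, hQfix p p1 p2 p3 p4, swap_apply_left]
  have Pq : P q = p := by rw [hP, Perm.mul_apply, hQfix q r1 r2 r3 r4, swap_apply_right]
  refine ⟨x, ?_, by rw [hx, Pp], by rw [hx, Pq]⟩
  have hdis : (π x).Disjoint (π (x⁻¹ * x⁻¹ * t)) := by
    intro i
    rw [map_mul, map_mul, map_inv, hx, ← hTdef]
    have hR : (P⁻¹ * P⁻¹ * T) i = i ↔ T i = P (P i) := by
      rw [Perm.mul_apply (P⁻¹ * P⁻¹), Perm.mul_apply, Perm.inv_eq_iff_eq, Perm.inv_eq_iff_eq]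
    rw [hR]
    by_cases h1 : i = a
    · subst h1; exact Or.inr (by rw [P1, P2])
    by_cases h2 : i = b
    · subst h2; exact Or.inr (by rw [P2, P3])
    by_cases h3 : i = T a
    · subst h3; exact Or.inr (by rw [P3, P4, hTT])
    by_cases h4 : i = T b
    · subst h4; exact Or.inr (by rw [P4, P1, hTT])
    by_cases h5 : i = p
    · subst h5; exact Or.inr (by rw [Pp, Pq, hp])
    by_cases h6 : i = q
    · subst h6; exact Or.inr (by rw [Pq, Pp, hq])
    exact Or.inl (by rw [hP, Perm.mul_apply, hQfix i h1 h2 h3 h4, swap_apply_of_ne_of_ne h5 h6])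
  have h := commute_of_disjoint hc hdis
  simpa [mul_assoc] using ((Commute.refl x).mul_right (Commute.refl x)).mul_right h

variable {G : Type u} [Group G] [Finite G]

/-- Every involution is conjugate to `z`, when those of its centraliser are. -/
theorem conj_z {z : G} (hz : orderOf z = 2)
    (hin : ∀ u ∈ centralizer ({z} : Set G), orderOf u = 2 → ∃ g, g * z * g⁻¹ = u)
    {y : G} (hy : orderOf y = 2) : ∃ g, g * z * g⁻¹ = y := by
  classical
  haveI : Fact (Nat.Prime 2) := ⟨Nat.prime_two⟩
  set C := centralizer ({z} : Set G) with hC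
  obtain ⟨P⟩ : Nonempty (Sylow 2 C) := inferInstance
  set zc : C := ⟨z, mem_centralizer_singleton_iff.2 rfl⟩ with hzc
  have hzP : zc ∈ (P : Subgroup C) := by
    have hp : IsPGroup 2 (zpowers zc) :=
      IsPGroup.of_card (n := 1) (by rw [Nat.card_zpowers, hzc, Subgroup.orderOf_mk, hz, pow_one])
    obtain ⟨R, hR⟩ := hp.exists_le_sylow
    obtain ⟨g, hg⟩ := MulAction.exists_smul_eq C R P
    rw [← hg, ← SetLike.mem_coe, Sylow.coe_subgroup_smul]
    refine ⟨zc, hR (mem_zpowers _), Subtype.ext ?_⟩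
    show (g : G) * z * (g : G)⁻¹ = z
    rw [mem_centralizer_singleton_iff.1 g.2, mul_inv_cancel_right]
  obtain ⟨T, hT⟩ := (P.2.map C.subtype).exists_le_sylow
  have hzT : z ∈ (T : Subgroup G) := hT ⟨zc, hzP, rfl⟩
  haveI : Nontrivial (T : Subgroup G) := (Subgroup.nontrivial_iff_exists_ne_one _).2
    ⟨z, hzT, fun e => by rw [e, orderOf_one] at hz; omega⟩
  haveI := T.2.center_nontrivial
  obtain ⟨u, hu⟩ := exists_prime_orderOf_dvd_card' (G := center (T : Subgroup G)) 2
    (by
      obtain ⟨k, hk0, hk⟩ := (T.2.to_subgroup (center (T : Subgroup G))).nontrivial_iff_card.1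
        inferInstance
      rw [hk]
      exact dvd_pow_self 2 (by omega))
  have huC : ∀ g ∈ (T : Subgroup G),
      g * ((u : (T : Subgroup G)) : G) = ((u : (T : Subgroup G)) : G) * g :=
    fun g hg => congrArg Subtype.val (mem_center_iff.1 u.2 ⟨g, hg⟩)
  obtain ⟨g, hg⟩ := hin ((u : (T : Subgroup G)) : G)
    (mem_centralizer_singleton_iff.2 (huC z hzT).symm)
    (by rw [Subgroup.orderOf_coe, Subgroup.orderOf_coe, hu])
  obtain ⟨Q, hQ⟩ := (IsPGroup.of_card (n := 1) (G := zpowers y) (p := 2)
    (by rw [Nat.card_zpowers, hy, pow_one])).exists_le_sylow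
  obtain ⟨w, hw⟩ := MulAction.exists_smul_eq G Q T
  have hwy : w * y * w⁻¹ ∈ (T : Subgroup G) := by
    rw [← hw, ← SetLike.mem_coe, Sylow.coe_subgroup_smul]
    exact ⟨y, hQ (mem_zpowers y), rfl⟩
  have hmem : g⁻¹ * (w * y * w⁻¹) * g ∈ C := by
    have h := huC _ hwy
    rw [← hg] at h
    refine mem_centralizer_singleton_iff.2 ?_
    calc g⁻¹ * (w * y * w⁻¹) * g * z = g⁻¹ * (w * y * w⁻¹ * (g * z * g⁻¹)) * g := by group
      _ = z * (g⁻¹ * (w * y * w⁻¹) * g) := by rw [h]; group
  obtain ⟨k, hk⟩ := hin _ hmem (by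
    rw [show g⁻¹ * (w * y * w⁻¹) * g = g⁻¹ * (w * y * w⁻¹) * (g⁻¹)⁻¹ by group,
      Involutions.Basic.orderOf_conj, Involutions.Basic.orderOf_conj, hy])
  refine ⟨w⁻¹ * g * k, ?_⟩
  calc w⁻¹ * g * k * z * (w⁻¹ * g * k)⁻¹ = w⁻¹ * g * (k * z * k⁻¹) * g⁻¹ * w := by group
    _ = y := by rw [hk]; group

/-- No automorphism that is inner times an outer involution centralising an element of order eleven
can come from the centraliser. -/
theorem false_ten {z : G} (hz : orderOf z = 2)
    {π : centralizer ({z} : Set G) →* Perm (Fin 10)} {zc : centralizer ({z} : Set G)}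
    (hzc : (zc : G) = z) (hc : IsAltCover π zc) {K : Type v} [Group K] [Finite K]
    (hKcl : ∀ x y : K, orderOf x = 2 → orderOf y = 2 → IsConj x y)
    (hKcent : ∀ x : K, orderOf x = 2 → Nat.card (centralizer ({x} : Set K)) = 40320)
    (hKout : ∃ σ : MulAut K, σ * σ = 1 ∧ σ ∉ (MulAut.conj : K →* MulAut K).range ∧
      ∃ a : K, orderOf a = 11 ∧ σ a = a)
    (hKcard : Nat.card (Cfsg.Out K) = 2)
    {τ : centralizer ({z} : Set G)} (hτ : τ ∈ fix8 π) (hτ2 : τ * τ = 1)
    (hτs : 4 ≤ (π τ).support.card) {c : G}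
    (hcV : ∀ y : G, Commute y z → Commute y (τ : G) →
      Commute (c * y * c⁻¹) z ∧ Commute (c * y * c⁻¹) (τ : G))
    (hcD : ∀ d : centralizer ({z} : Set G), d ∈ fix8 π → Commute (d : G) (τ : G) →
      ∃ d' : centralizer ({z} : Set G), d' ∈ fix8 π ∧ (d' : G) = c * d * c⁻¹)
    (M : Subgroup G)
    (hM : M = Subgroup.closure ((((fix8 π).map (centralizer ({z} : Set G)).subtype : Subgroup G) : Set G) ∪ {c}))
    (e : M ≃* K) : False := by
  classical
  set C0 := (fix8 π).map (centralizer ({z} : Set G)).subtype with hC0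
  have hC0M : C0 ≤ M := fun x hx => hM ▸ Subgroup.subset_closure (Or.inl hx)
  have hcM : c ∈ M := hM ▸ Subgroup.subset_closure (Or.inr rfl)
  have hzfix : zc ∈ fix8 π := mem_fix8.2 fun i _ => by rw [map_z hc, Perm.one_apply]
  have hzM : z ∈ M := hC0M ⟨zc, hzfix, hzc⟩
  have hmem8 : ∀ x : (centralizer ({z} : Set G)), x ∈ fix8 π ↔ π x 8 = 8 ∧ π x 9 = 9 := fun x => by
    rw [mem_fix8]
    refine ⟨fun h => ⟨h 8 le_rfl, h 9 (by decide)⟩, fun h i hi => ?_⟩
    have : i = 8 ∨ i = 9 := by
      rcases Nat.lt_or_ge (i : ℕ) 9 with h' | h'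
      · exact Or.inl (Fin.ext (by show (i : ℕ) = 8; omega))
      · exact Or.inr (Fin.ext (by show (i : ℕ) = 9; have := i.2; omega))
    rcases this with rfl | rfl
    · exact h.1
    · exact h.2
  -- the centraliser of `z` in the subgroup
  have hcardC0 : Nat.card C0 = 40320 := by
    rw [hC0, card_map_of_injective (Subgroup.subtype_injective _)]
    exact McLType.card_of_cover (cover_fix8 hc (by norm_num))
  have hCM : ∀ x : (centralizer ({z} : Set G)), (x : G) ∈ M ↔ x ∈ fix8 π := by
    intro x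
    refine ⟨fun h => ?_, fun h => hC0M ⟨x, h, rfl⟩⟩
    have hcard : Nat.card ↥((centralizer ({z} : Set G)) ⊓ M) = 40320 := by
      rw [← hKcent (e ⟨z, hzM⟩) (by rw [MulEquiv.orderOf_eq, Subgroup.orderOf_mk, hz])]
      refine Nat.card_congr
        { toFun := fun y => ⟨e ⟨y.1, y.2.2⟩, mem_centralizer_singleton_iff.2 (by
            rw [← map_mul, ← map_mul]
            exact congrArg e (Subtype.ext (mem_centralizer_singleton_iff.1 y.2.1)))⟩
          invFun := fun y => ⟨(e.symm y.1 : M), mem_centralizer_singleton_iff.2 ?_, (e.symm y.1).2⟩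
          left_inv := fun y => Subtype.ext (by simp)
          right_inv := fun y => Subtype.ext (by simp) }
      have h := congrArg e.symm (mem_centralizer_singleton_iff.1 y.2)
      simp only [map_mul, e.symm_apply_apply] at h
      exact congrArg Subtype.val h
    have heq : C0 = (centralizer ({z} : Set G)) ⊓ M := eq_of_le_of_card_ge (le_inf (map_subtype_le _) hC0M)
      (by rw [hcard, hcardC0])
    obtain ⟨d, hd, he⟩ : (x : G) ∈ C0 := heq ▸ ⟨x.2, h⟩
    rwa [← Subtype.ext he]
  -- the exchanged points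
  have hT8 : π τ 8 = 8 ∧ π τ 9 = 9 := (hmem8 τ).1 hτ
  obtain ⟨w, hwτ, hw8, hw9⟩ := exists_exchange hc hτ2 hτs hT8.1 hT8.2 (by decide)
  have hwM : (w : G) ∉ M := fun h => by
    have := ((hmem8 w).1 ((hCM w).1 h)).1
    rw [hw8] at this
    exact absurd this (by decide)
  have hwC0 : ∀ x : (centralizer ({z} : Set G)), x ∈ fix8 π → w * x * w⁻¹ ∈ fix8 π := fun x hx => by
    rw [hmem8] at hx ⊢
    have e8 : (π w)⁻¹ 8 = 9 := by rw [Perm.inv_eq_iff_eq, hw9]
    have e9 : (π w)⁻¹ 9 = 8 := by rw [Perm.inv_eq_iff_eq, hw8]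
    simp only [map_mul, map_inv, Perm.mul_apply]
    rw [e8, e9, hx.1, hx.2, hw8, hw9]
    exact ⟨rfl, rfl⟩
  -- elements of the centraliser of the four-group preserve the two points
  have hpres : ∀ x : (centralizer ({z} : Set G)), Commute x τ → (π x 8 = 8 ∧ π x 9 = 9) ∨ (π x 8 = 9 ∧ π x 9 = 8) := by
    intro x hx
    have hcm : Commute (π x) (π τ) := hx.map π
    have hfix : ∀ i, π τ i = i → π τ (π x i) = π x i := fun i hi => by
      rw [← Perm.mul_apply, ← hcm.eq, Perm.mul_apply, hi]
    have hle : (π τ).supportᶜ.card ≤ 2 := by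
      obtain ⟨hpos, hdvd⟩ := eight_of_involution hc (by norm_num) (x := τ)
        (orderOf_eq_prime (by rw [sq, hτ2]) fun e => by rw [e, map_one] at hτs; simp at hτs)
        (fun e => by rw [e, map_z hc] at hτs; simp at hτs)
      rw [Finset.card_compl, Fintype.card_fin]
      have := Nat.le_of_dvd hpos hdvd
      omega
    have h89 : ({8, 9} : Finset (Fin 10)) = (π τ).supportᶜ := by
      refine Finset.eq_of_subset_of_card_le (fun i hi => ?_) (hle.trans (le_of_eq (by decide)))
      simp only [Finset.mem_insert, Finset.mem_singleton] at hi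
      rw [Finset.mem_compl, Perm.notMem_support]
      rcases hi with rfl | rfl
      exacts [hT8.1, hT8.2]
    have hin : ∀ i, π τ i = i → π x i = 8 ∨ π x i = 9 := fun i hi => by
      have h : π x i ∈ ({8, 9} : Finset (Fin 10)) := by
        rw [h89, Finset.mem_compl, Perm.notMem_support]
        exact hfix i hi
      simpa using h
    rcases hin 8 hT8.1 with a | a <;> rcases hin 9 hT8.2 with b | b
    · exact absurd ((π x).injective (a.trans b.symm)) (by decide)
    · exact Or.inl ⟨a, b⟩
    · exact Or.inr ⟨a, b⟩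
    · exact absurd ((π x).injective (a.trans b.symm)) (by decide)
  -- the commutator of `c` and `w`
  have hcw : c * (w : G) * c⁻¹ * (w : G)⁻¹ ∈ M := by
    have h1 : Commute (w : G) z := mem_centralizer_singleton_iff.1 w.2
    have h2 : Commute (w : G) (τ : G) := hwτ.map (centralizer ({z} : Set G)).subtype
    obtain ⟨h3, h4⟩ := hcV _ h1 h2
    set x : (centralizer ({z} : Set G)) := ⟨c * w * c⁻¹, mem_centralizer_singleton_iff.2 h3.eq⟩ with hx
    have hxτ : Commute x τ := Subtype.ext h4.eq
    rcases hpres x hxτ with hp | hp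
    · exfalso
      have hxM : (x : G) ∈ M := hC0M ⟨x, (hmem8 x).2 hp, rfl⟩
      have := mul_mem (mul_mem (inv_mem hcM) hxM) hcM
      rw [show c⁻¹ * (x : G) * c = w by
        show c⁻¹ * (c * w * c⁻¹) * c = w; group] at this
      exact hwM this
    · refine hC0M ⟨x * w⁻¹, (hmem8 _).2 ?_, rfl⟩
      have e8 : (π w)⁻¹ 8 = 9 := by rw [Perm.inv_eq_iff_eq, hw9]
      have e9 : (π w)⁻¹ 9 = 8 := by rw [Perm.inv_eq_iff_eq, hw8]
      simp only [map_mul, map_inv, Perm.mul_apply]
      rw [e8, e9, hp.1, hp.2]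
      exact ⟨rfl, rfl⟩
  have hwn : ∀ x ∈ M, (w : G) * x * (w : G)⁻¹ ∈ M := by
    intro x hx
    rw [hM] at hx
    induction hx using Subgroup.closure_induction with
    | mem y hy =>
      rcases hy with ⟨d, hd, rfl⟩ | hy
      · exact hC0M ⟨w * d * w⁻¹, hwC0 d hd, rfl⟩
      · rw [Set.mem_singleton_iff.1 hy]
        have := mul_mem (inv_mem hcw) hcM
        rw [show (c * (w : G) * c⁻¹ * (w : G)⁻¹)⁻¹ * c = w * c * (w : G)⁻¹ by group] at this
        exact this
    | one => simp
    | mul a b _ _ ha hb =>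
      rw [show (w : G) * (a * b) * (w : G)⁻¹ = (w * a * (w : G)⁻¹) * (w * b * (w : G)⁻¹) by group]
      exact mul_mem ha hb
    | inv a _ ha =>
      rw [show (w : G) * a⁻¹ * (w : G)⁻¹ = (w * a * (w : G)⁻¹)⁻¹ by group]
      exact inv_mem ha
  -- the induced automorphism
  let f : M → M := fun x => ⟨(w : G) * x * (w : G)⁻¹, hwn x x.2⟩
  have hf : Function.Bijective f := Finite.injective_iff_bijective.1 fun a b h =>
    Subtype.ext (by simpa [f] using congrArg Subtype.val h)
  let ω : M ≃* M := MulEquiv.mk' (Equiv.ofBijective f hf) fun a b => Subtype.ext (by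
    show (w : G) * (a * b : M) * (w : G)⁻¹ = (w * a * (w : G)⁻¹) * (w * b * (w : G)⁻¹)
    rw [Subgroup.coe_mul]
    group)
  have hω : ∀ x : M, ((ω x : M) : G) = w * x * (w : G)⁻¹ := fun x => rfl
  have hcent : ∀ g : G, (∀ x ∈ M, Commute g x) → g = 1 := by
    intro g hg
    set y : (centralizer ({z} : Set G)) := ⟨g, mem_centralizer_singleton_iff.2 (hg z hzM).eq⟩ with hy
    have hy8 : ∀ d : (centralizer ({z} : Set G)), d ∈ fix8 π → Commute (π y) (π d) := fun d hd =>
      Commute.map (show Commute y d from Subtype.ext (hg d (hC0M ⟨d, hd, rfl⟩)).eq) π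
    have hfix : ∀ i : Fin 10, (i : ℕ) < 8 → π y i = i := by
      intro i hi
      by_contra hne
      have hpick : ∀ i j : Fin 10, (i : ℕ) < 8 → i ≠ j → ∃ a b d : Fin 10, (a : ℕ) < 8 ∧
          (b : ℕ) < 8 ∧ (d : ℕ) < 8 ∧ [i, a, b, d].Nodup ∧ j ∉ [i, a, b, d] := by decide +kernel
      obtain ⟨a, b, d, ha, hb, hd, hnd, hj⟩ := hpick i (π y i) hi (Ne.symm hne)
      obtain ⟨x, hx⟩ := exists_lift hc (σ := swap i a * swap b d) (by
        simp only [List.nodup_cons, List.mem_cons, List.not_mem_nil, or_false, not_or] at hnd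
        simp [Perm.sign_mul, Perm.sign_swap hnd.1.1, Perm.sign_swap hnd.2.2.1])
      have hx8 : x ∈ fix8 π := mem_fix8.2 fun k hk => by
        have hne : ∀ m : Fin 10, (m : ℕ) < 8 → k ≠ m := fun m hm e => by rw [e] at hk; omega
        have e1 : swap b d k = k := swap_apply_of_ne_of_ne (hne b hb) (hne d hd)
        have e2 : swap i a k = k := swap_apply_of_ne_of_ne (hne i hi) (hne a ha)
        rw [hx, Perm.mul_apply, e1, e2]
      have h := DFunLike.congr_fun (hy8 x hx8).eq i
      simp only [List.nodup_cons, List.mem_cons, List.not_mem_nil, or_false, not_or] at hnd hj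
      rw [Perm.mul_apply, Perm.mul_apply, hx, Perm.mul_apply, Perm.mul_apply,
        swap_apply_of_ne_of_ne hnd.1.2.1 hnd.1.2.2, swap_apply_left,
        swap_apply_of_ne_of_ne hj.2.2.1 hj.2.2.2, swap_apply_of_ne_of_ne hj.1 hj.2.1] at h
      exact hnd.1.1 ((π y).injective h).symm
    have h1 : π y = 1 := by
      have hs := sign_map hc y
      rcases eq_or_ne (π y 8) 8 with h | h
      · refine Perm.ext fun i => ?_
        rw [Perm.one_apply]
        by_cases hi : (i : ℕ) < 8
        · exact hfix i hi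
        by_cases hi8 : i = 8
        · rw [hi8, h]
        by_contra hne
        have := (π y).injective (a₁ := π y i) (a₂ := i)
        rcases (show (π y i : ℕ) < 8 ∨ π y i = 8 ∨ π y i = 9 by
          rcases Nat.lt_or_ge (π y i : ℕ) 8 with h' | h'
          · exact Or.inl h'
          · rcases Nat.lt_or_ge (π y i : ℕ) 9 with h'' | h''
            · exact Or.inr (Or.inl (Fin.ext (by show (π y i : ℕ) = 8; omega)))
            · exact Or.inr (Or.inr (Fin.ext (by show (π y i : ℕ) = 9; have := (π y i).2; omega))))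
          with h' | h' | h'
        · exact hne ((π y).injective (hfix _ h'))
        · exact hi8 ((π y).injective (h'.trans h.symm))
        · have : (i : ℕ) = 9 := by
            have := i.2
            have : (i : ℕ) ≠ 8 := fun e => hi8 (Fin.ext e)
            omega
          exact hne (h'.trans (Fin.ext this.symm))
      · exfalso
        have hsw : π y = swap 8 9 := by
          refine Perm.ext fun i => ?_
          have hbig : ∀ i : Fin 10, ¬ (i : ℕ) < 8 → π y i = 8 ∨ π y i = 9 := fun i hi => by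
            have : ¬ (π y i : ℕ) < 8 := fun h' => hi (by
              have e := (π y).injective (hfix _ h')
              rw [e] at h'
              exact h')
            have := (π y i).2
            rcases Nat.lt_or_ge (π y i : ℕ) 9 with h'' | h''
            · exact Or.inl (Fin.ext (by show (π y i : ℕ) = 8; omega))
            · exact Or.inr (Fin.ext (by show (π y i : ℕ) = 9; omega))
          have h89 : π y 8 = 9 := (hbig 8 (by decide)).resolve_left h
          have h98 : π y 9 = 8 := (hbig 9 (by decide)).resolve_right fun e =>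
            absurd ((π y).injective (h89.trans e.symm)) (by decide)
          by_cases hi : (i : ℕ) < 8
          · rw [hfix i hi, swap_apply_of_ne_of_ne (fun e => by rw [e] at hi; exact absurd hi (by decide))
              (fun e => by rw [e] at hi; exact absurd hi (by decide))]
          · rcases Nat.lt_or_ge (i : ℕ) 9 with h' | h'
            · rw [show i = 8 from Fin.ext (by show (i : ℕ) = 8; omega), h89, swap_apply_left]
            · rw [show i = 9 from Fin.ext (by show (i : ℕ) = 9; have := i.2; omega), h98,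
                swap_apply_right]
        rw [hsw, Perm.sign_swap (by decide)] at hs
        exact absurd hs (by decide)
    rcases eq_or_of_map_one hc h1 with h | h
    · exact congrArg Subtype.val h
    · exfalso
      have hgz : g = z := (congrArg Subtype.val h).trans hzc
      have htop : centralizer ({e ⟨z, hzM⟩} : Set K) = ⊤ := eq_top_iff.2 fun k _ =>
        mem_centralizer_singleton_iff.2 (e.symm.injective (by
          rw [map_mul, map_mul, e.symm_apply_apply]
          exact Subtype.ext ((hgz ▸ hg _ (e.symm k).2).eq).symm))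
      have h40 := hKcent (e ⟨z, hzM⟩) (by rw [MulEquiv.orderOf_eq, Subgroup.orderOf_mk, hz])
      rw [htop, card_top] at h40
      obtain ⟨a, ha⟩ : ∃ a : K, orderOf a = 11 := by
        obtain ⟨-, -, -, a, ha, -⟩ := hKout
        exact ⟨a, ha⟩
      have := ha ▸ orderOf_dvd_natCard a
      rw [h40] at this
      norm_num at this
  -- compare with the outer involution
  obtain ⟨σ, hσ2, hσ, a, ha, hσa⟩ := hKout
  set ω' : MulAut K := (e.symm.trans ω).trans e with hω'
  have hω'app : ∀ x, ω' x = e (ω (e.symm x)) := fun x => rfl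
  have hnot : ω' ∉ (MulAut.conj : K →* MulAut K).range := by
    rintro ⟨k, hk⟩
    have h := hcent (((e.symm k : M) : G)⁻¹ * w) fun x hx => by
      have h1 := congrArg e.symm (DFunLike.congr_fun hk (e ⟨x, hx⟩))
      rw [MulAut.conj_apply, hω'app, e.symm_apply_apply, e.symm_apply_apply, map_mul, map_mul,
        map_inv, e.symm_apply_apply] at h1
      have h2 := congrArg Subtype.val h1
      rw [hω] at h2
      simp only [Subgroup.coe_mul, Subgroup.coe_inv] at h2
      show _ * _ = _ * _
      calc ((e.symm k : M) : G)⁻¹ * w * x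
          = ((e.symm k : M) : G)⁻¹ * ((w : G) * x * (w : G)⁻¹) * w := by group
        _ = x * (((e.symm k : M) : G)⁻¹ * w) := by rw [← h2]; group
    rw [inv_mul_eq_one] at h
    exact hwM (h ▸ (e.symm k).2)
  haveI : Finite (MulAut K) := Finite.of_injective _ DFunLike.coe_injective
  have hidx : (MulAut.conj : K →* MulAut K).range.index = 2 := by
    rw [index_eq_card]
    exact hKcard
  obtain ⟨k, hk⟩ : ω'⁻¹ * σ ∈ (MulAut.conj : K →* MulAut K).range :=
    (mul_mem_iff_of_index_two hidx).2 (iff_of_false (fun h => hnot (by simpa using inv_mem h)) hσ)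
  set g : G := (w : G) * ((e.symm k : M) : G) with hg
  have hgact : ∀ x : M, g * (x : G) * g⁻¹ = ((e.symm (σ (e x)) : M) : G) := by
    intro x
    have h : σ (e x) = ω' (MulAut.conj k (e x)) := by
      rw [← MulAut.mul_apply, hk, mul_inv_cancel_left]
    rw [h, hω'app, e.symm_apply_apply, hω, MulAut.conj_apply]
    simp only [map_mul, map_inv, e.symm_apply_apply, Subgroup.coe_mul, Subgroup.coe_inv, hg]
    group
  have hg2 : g * g = 1 := hcent _ fun x hx => by
    have h1 := hgact ⟨x, hx⟩
    have h2 := hgact (e.symm (σ (e ⟨x, hx⟩)))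
    rw [e.apply_symm_apply, ← MulAut.mul_apply, hσ2, MulAut.one_apply, e.symm_apply_apply] at h2
    simp only at h1 h2
    rw [← h1] at h2
    show g * g * x = x * (g * g)
    calc g * g * x = g * (g * x * g⁻¹) * g⁻¹ * (g * g) := by group
      _ = x * (g * g) := by rw [h2]
  have hg1 : g ≠ 1 := fun e' => hwM (by
    rw [hg, mul_eq_one_iff_eq_inv] at e'
    rw [e']
    exact inv_mem (e.symm k).2)
  have hgo : orderOf g = 2 := orderOf_eq_prime (by rw [sq, hg2]) hg1
  -- fusion
  have hin : ∀ u ∈ (centralizer ({z} : Set G)), orderOf u = 2 → ∃ h, h * z * h⁻¹ = u := by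
    intro u hu hu2
    rcases eq_or_ne u z with rfl | hne
    · exact ⟨1, by group⟩
    obtain ⟨h, hh⟩ := exists_conj_fix8 hc (by norm_num) (by norm_num) (x := (⟨u, hu⟩ : (centralizer ({z} : Set G))))
      (by rw [Subgroup.orderOf_mk, hu2]) (fun e' => hne ((congrArg Subtype.val e').trans hzc))
    have hmM : (h : G) * u * (h : G)⁻¹ ∈ M := hC0M ⟨_, hh, rfl⟩
    obtain ⟨m, hm⟩ := isConj_iff.1 (hKcl (e ⟨z, hzM⟩) (e ⟨_, hmM⟩)
      (by rw [MulEquiv.orderOf_eq, Subgroup.orderOf_mk, hz])
      (by rw [MulEquiv.orderOf_eq, Subgroup.orderOf_mk, Involutions.Basic.orderOf_conj, hu2]))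
    have h' := congrArg (fun y => ((e.symm y : M) : G)) hm
    simp only [map_mul, map_inv, e.symm_apply_apply, Subgroup.coe_mul, Subgroup.coe_inv] at h'
    refine ⟨(h : G)⁻¹ * ((e.symm m : M) : G), ?_⟩
    calc (h : G)⁻¹ * ((e.symm m : M) : G) * z * ((h : G)⁻¹ * ((e.symm m : M) : G))⁻¹
        = (h : G)⁻¹ * (((e.symm m : M) : G) * z * ((e.symm m : M) : G)⁻¹) * h := by group
      _ = u := by rw [h']; group
  obtain ⟨r, hr⟩ := conj_z hz hin hgo
  have hga : Commute g ((e.symm a : M) : G) := by
    have := hgact (e.symm a)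
    rw [e.apply_symm_apply, hσa] at this
    exact mul_inv_eq_iff_eq_mul.1 this
  have hrC : r⁻¹ * ((e.symm a : M) : G) * r ∈ (centralizer ({z} : Set G)) := by
    refine mem_centralizer_singleton_iff.2 ?_
    calc r⁻¹ * ((e.symm a : M) : G) * r * z
        = r⁻¹ * (((e.symm a : M) : G) * (r * z * r⁻¹)) * r := by group
      _ = r⁻¹ * ((r * z * r⁻¹) * ((e.symm a : M) : G)) * r := by rw [hr, hga.eq]
      _ = z * (r⁻¹ * ((e.symm a : M) : G) * r) := by group
  have h11 : 11 ∣ Nat.card (centralizer ({z} : Set G)) := by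
    have := (centralizer ({z} : Set G)).orderOf_dvd_natCard hrC
    rwa [show r⁻¹ * ((e.symm a : M) : G) * r = r⁻¹ * ((e.symm a : M) : G) * (r⁻¹)⁻¹ by group,
      Involutions.Basic.orderOf_conj, Subgroup.orderOf_coe, MulEquiv.orderOf_eq, ha] at this
  rw [card_eq_card_quotient_mul_card_subgroup π.ker,
    Nat.card_congr (QuotientGroup.quotientKerEquivRange π).toEquiv, hc.range, hc.ker,
    Nat.card_zpowers, hc.order] at h11
  have h := two_mul_nat_card_alternatingGroup (α := Fin 10)
  rw [Nat.card_perm, Nat.card_fin, show Nat.factorial 10 = 3628800 from rfl] at h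
  omega

end Cfsg.Agent.AltDouble.Ten
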