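import Cfsg.Agent.Lib.McLType.Exists
import Cfsg.Agent.Lib.McLType.Top
import Cfsg.Agent.Lib.AltDouble.Basic

/-!
# Degree ten: the subgroup generated by the point stabiliser and an element cycling the four-group
-/

set_option autoImplicit false
set_option linter.unusedSectionVars false
set_option linter.style.haveILetI false
set_option maxRecDepth 100000
set_option Elab.async false

noncomputable section

namespace Cfsg.Agent.AltDouble.TenSub

open Cfsg Subgroup Equiv Cfsg.Agent.McLType
open Cfsg.Agent.GroupStructure3.McLInv (Cn nonsplit_Cn)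

universe u

variable {G : Type u} [Group G] [Finite G]

/-- The group generated by the image and the element of order three is McL. -/
theorem closure_equiv (φ : Cn →* G) (hφ : Function.Injective φ) (c : G)
    (hc : ∀ v < 192, c * φ (eV v) = φ (eV (alN v)) * c)
    (hE : ∀ i < 2, ∀ y : G, (∀ j < 16, y * φ (eE i j) = φ (eE i j) * y) → y ∈ φ.range) :
    Nonempty (↥(Subgroup.closure ((φ.range : Set G) ∪ {c})) ≃* Spor.McL) := by
  classical
  set L := Subgroup.closure ((φ.range : Set G) ∪ {c}) with hL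
  obtain ⟨d, -, K, hex⟩ := (Conf.mk hφ hc hE : Conf φ c).exists_exact
  -- the two elements differ inside the image
  have hcd : c⁻¹ * d ∈ φ.range := hE 0 (by norm_num) _ fun j hj => by
    have hv : eI 0 j < 192 := eI_lt
    have h1 := hc _ hv
    have h2 := K.conj _ hv
    rw [eE, mul_assoc, h2, ← mul_assoc, ← mul_assoc]
    congr 1
    rw [inv_mul_eq_iff_eq_mul, ← mul_assoc, eq_mul_inv_iff_mul_eq, h1]
  have hsame : Subgroup.closure ((φ.range : Set G) ∪ {d}) = L := by
    refine le_antisymm ((Subgroup.closure_le _).2 ?_) ((Subgroup.closure_le _).2 ?_)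
    · rintro x (hx | hx)
      · exact Subgroup.subset_closure (Or.inl hx)
      · rw [Set.mem_singleton_iff.1 hx, show d = c * (c⁻¹ * d) by group]
        exact mul_mem (Subgroup.subset_closure (Or.inr rfl)) (Subgroup.subset_closure (Or.inl hcd))
    · rintro x (hx | hx)
      · exact Subgroup.subset_closure (Or.inl hx)
      · rw [Set.mem_singleton_iff.1 hx, show c = d * (c⁻¹ * d)⁻¹ by group]
        exact mul_mem (Subgroup.subset_closure (Or.inr rfl))
          (inv_mem (Subgroup.subset_closure (Or.inl hcd)))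
  have hcard : Nat.card L ≤ 898128000 := by
    rw [← hsame]
    exact K.pre.card_closure hex
  let φL : Cn →* L := φ.codRestrict L fun x => Subgroup.subset_closure (Or.inl ⟨x, rfl⟩)
  let cL : L := ⟨c, Subgroup.subset_closure (Or.inr rfl)⟩
  obtain ⟨M, -, ⟨e⟩⟩ := exists_mcl_core φL (fun a b h => hφ (congrArg Subtype.val h)) cL
    (fun v hv => Subtype.ext (hc v hv)) (fun i hi y hy => by
      obtain ⟨x, hx⟩ := hE i hi y fun j hj => congrArg Subtype.val (hy j hj)
      exact ⟨x, Subtype.ext hx⟩)
  have hM : M = ⊤ := eq_top_of_le_card M (by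
    rw [Nat.card_congr e.toEquiv, card_spor]
    exact hcard)
  subst hM
  exact ⟨Subgroup.topEquiv.symm.trans e⟩

theorem al_values : alN 13 = teI ∧ alN 35 = 13 := by decide +kernel

variable {z : G} {π : centralizer ({z} : Set G) →* Perm (Fin 10)} {zc : centralizer ({z} : Set G)}

theorem cases89 {i : Fin 10} (hi : ¬ (i : ℕ) < 8) : i = 8 ∨ i = 9 := by
  rcases Nat.lt_or_ge (i : ℕ) 9 with h | h
  · exact Or.inl (Fin.ext (by show (i : ℕ) = 8; omega))
  · exact Or.inr (Fin.ext (by show (i : ℕ) = 9; have := i.2; omega))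

theorem card_eight : (Finset.univ.filter fun k : Fin 10 => (k : ℕ) < 8).card = 8 := by decide

theorem xor_facts : ∀ a b : Fin 8, a ≠ b →
    (2 * (a : ℕ)) ^^^ (2 * (b : ℕ)) ≠ 0 ∧ (2 * (a : ℕ)) ^^^ (2 * (b : ℕ)) ≠ 1 := by decide +kernel

/-- The support of an involution of the point stabiliser is the eight points. -/
theorem moved (hc : IsAltCover π zc) {x : centralizer ({z} : Set G)} (hx : x ∈ fix8 π)
    (hx2 : x * x = 1) (hx1 : x ≠ 1) (hxz : x ≠ zc) {i : Fin 10} (hi : (i : ℕ) < 8) : π x i ≠ i := by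
  intro he
  obtain ⟨hpos, hdvd⟩ := eight_of_involution hc (by norm_num)
    (orderOf_eq_prime (by rw [sq, hx2]) hx1) hxz
  have hle := Nat.le_of_dvd hpos hdvd
  have hsub : (π x).support ⊆ (Finset.univ.filter fun k : Fin 10 => (k : ℕ) < 8).erase i := fun k hk => by
    rw [Perm.mem_support] at hk
    refine Finset.mem_erase.2 ⟨fun e => hk (e ▸ he), Finset.mem_filter.2 ⟨Finset.mem_univ _, ?_⟩⟩
    by_contra h
    exact hk (mem_fix8.1 hx k (not_lt.1 h))
  have := Finset.card_le_card hsub
  have hmem : i ∈ (Finset.univ.filter fun k : Fin 10 => (k : ℕ) < 8) :=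
    Finset.mem_filter.2 ⟨Finset.mem_univ _, hi⟩
  rw [Finset.card_erase_of_mem hmem, card_eight] at this
  omega

/-- An element centralising one of the groups of order sixteen lies in the point stabiliser. -/
theorem cent_sixteen (hc : IsAltCover π zc) {f : Cn →* centralizer ({z} : Set G)}
    (hf : Function.Injective f) (hf8 : ∀ a, f a ∈ fix8 π) (hfz : f tC = zc) {i : ℕ} (hi : i < 2)
    {y : centralizer ({z} : Set G)} (hy : ∀ j < 16, Commute y (f (eE i j))) :
    y ∈ fix8 π := by
  classical
  obtain ⟨e0, e1, -, -⟩ := eE_small hi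
  have hsq : ∀ j < 16, eE i j * eE i j = 1 := fun j hj => by
    rw [eE_mul hi hj hj, Nat.xor_self, e0]
  let F : Fin 8 → Fin 10 := fun m => π (f (eE i (2 * m))) 0
  have hF8 : ∀ m, (F m : ℕ) < 8 := fun m => by
    by_contra h
    have h0 := mem_fix8.1 (hf8 (eE i (2 * m))) (F m) (not_lt.1 h)
    have := (π (f (eE i (2 * m)))).injective h0
    rw [this] at h
    exact h (by decide)
  have hFinj : Function.Injective F := by
    intro a b hab
    by_contra hne
    have ha : 2 * (a : ℕ) < 16 := by omega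
    have hb : 2 * (b : ℕ) < 16 := by omega
    have hx : (2 * (a : ℕ)) ^^^ (2 * (b : ℕ)) < 16 := Nat.xor_lt_two_pow (n := 4) ha hb
    have hk := xor_facts a b hne
    refine moved hc (hf8 (eE i ((2 * (a : ℕ)) ^^^ (2 * (b : ℕ))))) (by rw [← map_mul, hsq _ hx, map_one])
      ?_ ?_ (i := 0) (by decide) ?_
    · intro e
      exact hk.1 (eE_inj hi hx (by norm_num) (hf (e.trans ((congrArg f e0).trans (map_one f)).symm)))
    · intro e
      exact hk.2 (eE_inj hi hx (by norm_num) (hf (e.trans ((congrArg f e1).trans hfz).symm)))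
    · rw [← eE_mul hi ha hb, map_mul, map_mul, Perm.mul_apply]
      show π (f (eE i (2 * a))) (F b) = 0
      rw [← hab]
      show π (f (eE i (2 * a))) (π (f (eE i (2 * a))) 0) = 0
      rw [← Perm.mul_apply, ← map_mul, ← map_mul, hsq _ ha, map_one, map_one, Perm.one_apply]
  have hsurj : ∀ k : Fin 10, (k : ℕ) < 8 → ∃ m, F m = k := by
    intro k hk
    let F' : Fin 8 → Fin 8 := fun m => ⟨F m, hF8 m⟩
    obtain ⟨m, hm⟩ := Finite.injective_iff_surjective.1
      (fun a b h => hFinj (Fin.ext (congrArg (fun t : Fin 8 => (t : ℕ)) h)) : Function.Injective F')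
      ⟨k, hk⟩
    exact ⟨m, Fin.ext (congrArg (fun t : Fin 8 => (t : ℕ)) hm)⟩
  have hcm : ∀ j < 16, Commute (π y) (π (f (eE i j))) := fun j hj => (hy j hj).map π
  have hy0 : (π y 0 : ℕ) < 8 := by
    by_contra h
    have hj : (2 : ℕ) < 16 := by norm_num
    have h0 := mem_fix8.1 (hf8 (eE i 2)) (π y 0) (not_lt.1 h)
    rw [← Perm.mul_apply, ← (hcm 2 hj).eq, Perm.mul_apply] at h0
    refine moved hc (hf8 (eE i 2)) (by rw [← map_mul, hsq _ hj, map_one]) ?_ ?_ (i := 0) (by decide)
      ((π y).injective h0)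
    · intro e
      exact absurd (eE_inj hi hj (by norm_num) (hf (e.trans ((congrArg f e0).trans (map_one f)).symm)))
        (by norm_num)
    · intro e
      exact absurd (eE_inj hi hj (by norm_num) (hf (e.trans ((congrArg f e1).trans hfz).symm)))
        (by norm_num)
  obtain ⟨m, hm⟩ := hsurj _ hy0
  set w := (f (eE i (2 * m)))⁻¹ * y with hw
  have hw8 : ∀ k : Fin 10, (k : ℕ) < 8 → π w k = k := by
    intro k hk
    obtain ⟨l, rfl⟩ := hsurj k hk
    have hl : 2 * (l : ℕ) < 16 := by omega
    have hm' : 2 * (m : ℕ) < 16 := by omega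
    have hee : Commute (f (eE i (2 * m))) (f (eE i (2 * l))) := by
      refine Commute.map (show Commute (eE i (2 * m)) (eE i (2 * l)) from ?_) f
      show _ * _ = _ * _
      rw [eE_mul hi hm' hl, eE_mul hi hl hm', Nat.xor_comm]
    have hwl : Commute (π w) (π (f (eE i (2 * l)))) :=
      ((hee.inv_left).mul_left (hy _ hl)).map π
    show π w (π (f (eE i (2 * l))) 0) = π (f (eE i (2 * l))) 0
    rw [← Perm.mul_apply, hwl.eq, Perm.mul_apply]
    congr 1
    rw [hw, map_mul, map_inv, Perm.mul_apply, Perm.inv_eq_iff_eq]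
    exact hm.symm
  have h89 : π w 8 = 8 ∧ π w 9 = 9 := by
    have hbig : ∀ k : Fin 10, ¬ (k : ℕ) < 8 → π w k = 8 ∨ π w k = 9 := fun k hk => cases89 fun h => hk (by
      have e := (π w).injective (hw8 _ h)
      rwa [e] at h)
    rcases hbig 8 (by decide) with a | a <;> rcases hbig 9 (by decide) with b | b
    · exact absurd ((π w).injective (a.trans b.symm)) (by decide)
    · exact ⟨a, b⟩
    · exfalso
      have hsw : π w = swap 8 9 := Perm.ext fun k => by
        by_cases hk : (k : ℕ) < 8
        · rw [hw8 k hk, swap_apply_of_ne_of_ne (fun e => by rw [e] at hk; exact absurd hk (by decide))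
            (fun e => by rw [e] at hk; exact absurd hk (by decide))]
        · rcases cases89 hk with rfl | rfl
          · rw [a, swap_apply_left]
          · rw [b, swap_apply_right]
      have hs := sign_map hc w
      rw [hsw, Perm.sign_swap (by decide)] at hs
      exact absurd hs (by decide)
    · exact absurd ((π w).injective (a.trans b.symm)) (by decide)
  have hwmem : w ∈ fix8 π := mem_fix8.2 fun k hk => by
    rcases cases89 (not_lt.2 hk) with rfl | rfl
    exacts [h89.1, h89.2]
  rw [show y = f (eE i (2 * m)) * w by rw [hw, mul_inv_cancel_left]]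
  exact mul_mem (hf8 _) hwmem

/-- The subgroup for the degree ten. -/
theorem exists_sub (hzc : (zc : G) = z) (hc : IsAltCover π zc)
    (hgen : ∀ v < 192, eV v ∈ Subgroup.closure {g : Cn | g ^ 3 = 1 ∧ g * tau = tau * g})
    {τ : centralizer ({z} : Set G)} (hτ : τ ∈ fix8 π) (hτ2 : τ * τ = 1) (hτ1 : τ ≠ 1) (hτz : τ ≠ zc)
    {u0 : G} (h1 : u0 * z * u0⁻¹ = τ) (h2 : u0 * τ * u0⁻¹ = τ * z)
    (h3 : u0 * (τ * z) * u0⁻¹ = z) :
    ∃ c : G, (∀ y : G, Commute y z → Commute y (τ : G) →
        Commute (c * y * c⁻¹) z ∧ Commute (c * y * c⁻¹) (τ : G)) ∧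
      (∀ d : centralizer ({z} : Set G), d ∈ fix8 π → Commute (d : G) (τ : G) →
        ∃ d' : centralizer ({z} : Set G), d' ∈ fix8 π ∧ (d' : G) = c * d * c⁻¹) ∧
      Nonempty (↥(Subgroup.closure ((((fix8 π).map (centralizer ({z} : Set G)).subtype : Subgroup G) : Set G) ∪ {c}))
        ≃* Spor.McL) := by
  classical
  have hcov := cover_fix8 hc (by norm_num)
  obtain ⟨e⟩ := cover_unique nonsplit_Cn hcov
  -- the central involution
  have hzf : zc ∈ fix8 π := mem_fix8.2 fun i _ => by rw [map_z hc, Perm.one_apply]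
  have he : e tC = ⟨zc, hzf⟩ := by
    obtain ⟨p, q, hpq, huniv⟩ := Nat.card_eq_two_iff.1 hcov.1
    have hmem : ∀ x : center (fix8 π), x = p ∨ x = q := fun x => by
      have : x ∈ ({p, q} : Set _) := huniv ▸ Set.mem_univ x
      simpa using this
    have a1 : e tC ∈ center (fix8 π) := mem_center_iff.2 fun b => by
      rw [← e.apply_symm_apply b, ← map_mul, ← map_mul, tC_central]
    have a2 : (⟨zc, hzf⟩ : fix8 π) ∈ center (fix8 π) :=
      mem_center_iff.2 fun b => Subtype.ext (z_comm hc b).eq
    have n1 : (⟨e tC, a1⟩ : center (fix8 π)) ≠ 1 := fun h =>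
      tC_ne (e.injective ((congrArg Subtype.val h).trans (map_one e).symm))
    have n2 : (⟨_, a2⟩ : center (fix8 π)) ≠ 1 := fun h =>
      z_ne hc (congrArg Subtype.val (congrArg Subtype.val h))
    rcases hmem 1 with h | h <;> rcases hmem ⟨e tC, a1⟩ with h' | h' <;> rcases hmem ⟨_, a2⟩ with h'' | h''
    all_goals first
      | exact congrArg Subtype.val (h'.trans h''.symm)
      | exact absurd (h'.trans h.symm) n1
      | exact absurd (h''.trans h.symm) n2
  obtain ⟨g0, hg0⟩ := exists_conj_tau (y := e.symm ⟨τ, hτ⟩)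
    (e.injective (by rw [map_mul, e.apply_symm_apply, map_one]; exact Subtype.ext hτ2))
    (fun h => hτ1 (by
      have := congrArg e h
      rw [e.apply_symm_apply, map_one] at this
      exact congrArg Subtype.val this))
    (fun h => hτz (by
      have := congrArg e h
      rw [e.apply_symm_apply, he] at this
      exact congrArg Subtype.val this))
  let f : Cn →* centralizer ({z} : Set G) :=
    ((fix8 π).subtype.comp e.toMonoidHom).comp (MulAut.conj g0).toMonoidHom
  have hfapp : ∀ a, f a = (e (g0 * a * g0⁻¹) : centralizer ({z} : Set G)) := fun a => rfl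
  have hfinj : Function.Injective f :=
    ((fix8 π).subtype_injective.comp e.injective).comp (MulAut.conj g0).injective
  have hf8 : ∀ a, f a ∈ fix8 π := fun a => (e _).2
  have hfz : f tC = zc := by rw [hfapp, tC_central, mul_inv_cancel_right, he]
  have hfτ : f tau = τ := by rw [hfapp, hg0, e.apply_symm_apply]
  have hfsurj : ∀ d ∈ fix8 π, ∃ a, f a = d := fun d hd =>
    ⟨g0⁻¹ * e.symm ⟨d, hd⟩ * g0, by rw [hfapp]; simp [mul_assoc]⟩
  let φ : Cn →* G := (centralizer ({z} : Set G)).subtype.comp f
  have hφ : Function.Injective φ := (centralizer ({z} : Set G)).subtype_injective.comp hfinj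
  have hφz : φ tC = z := by show ((f tC : centralizer ({z} : Set G)) : G) = z; rw [hfz, hzc]
  have hφτ : φ tau = τ := by show ((f tau : centralizer ({z} : Set G)) : G) = τ; rw [hfτ]
  have hrange : φ.range = (fix8 π).map (centralizer ({z} : Set G)).subtype := by
    refine le_antisymm ?_ ?_
    · rintro _ ⟨a, rfl⟩
      exact ⟨f a, hf8 a, rfl⟩
    · rintro _ ⟨d, hd, rfl⟩
      obtain ⟨a, ha⟩ := hfsurj d hd
      exact ⟨a, congrArg Subtype.val ha⟩
  have hzτ : z * τ = τ * z := (mem_centralizer_singleton_iff.1 τ.2).symm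
  set u := u0⁻¹ with hu
  have hte : φ te = z * τ := by rw [te, map_mul, hφz, hφτ]
  have m1 : Maps φ u tC te := by
    show _ = φ te
    rw [hφz, hte, hu, hzτ]
    have h3' : u0⁻¹ * (u0 * ((τ : G) * z) * u0⁻¹) * u0⁻¹⁻¹ = τ * z := by group
    rw [h3] at h3'
    exact h3'
  have m2 : Maps φ u tau tC := by
    show _ = φ tC
    rw [hφz, hφτ, hu]
    have h1' : u0⁻¹ * (u0 * z * u0⁻¹) * u0⁻¹⁻¹ = z := by group
    rw [h1] at h1'
    exact h1'
  -- the normalised subgroup
  have hnorm : ∀ v < 192, ∃ w < 192, Maps φ u (eV v) (eV w) := by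
    intro v hv
    suffices h : ∀ g ∈ Subgroup.closure {g : Cn | g ^ 3 = 1 ∧ g * tau = tau * g},
        ∃ b, b * tau = tau * b ∧ Maps φ u g b by
      obtain ⟨b, hb, hm⟩ := h _ (hgen v hv)
      obtain ⟨w, hw, rfl⟩ := exists_eV hb
      exact ⟨w, hw, hm⟩
    intro g hg
    induction hg using Subgroup.closure_induction with
    | mem g hg =>
      obtain ⟨hg3, hgt⟩ := hg
      have cu : ∀ {a : G}, Commute (φ g) a → Commute (u * φ g * u⁻¹) (u * a * u⁻¹) :=
        fun h => h.conj _
      have c1 : Commute (φ g) z := by rw [← hφz]; exact (show Commute g tC from tC_central g).map φ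
      have c2 : Commute (φ g) (τ : G) := by rw [← hφτ]; exact (show Commute g tau from hgt).map φ
      have d1 := cu c1
      have d2 := cu c2
      rw [show u * z * u⁻¹ = (z : G) * τ by
        have := m1; rw [Maps, hφz, hte] at this; exact this] at d1
      rw [show u * (τ : G) * u⁻¹ = z by
        have := m2; rw [Maps, hφτ, hφz] at this; exact this] at d2
      set X := u * φ g * u⁻¹ with hX
      set x : centralizer ({z} : Set G) := ⟨X, mem_centralizer_singleton_iff.2 d2.eq⟩ with hx
      have hxτ : Commute X (τ : G) := by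
        have := d2.inv_right.mul_right d1
        rwa [inv_mul_cancel_left] at this
      have hx3 : x ^ 3 = 1 := Subtype.ext (by
        show X ^ 3 = 1
        rw [hX, conj_pow, ← map_pow, hg3, map_one, mul_one, mul_inv_cancel])
      have hcm : Commute (π x) (π τ) := (show Commute x τ from Subtype.ext hxτ.eq).map π
      have hP3 : ∀ k, π x (π x (π x k)) = k := fun k => by
        rw [← Perm.mul_apply, ← Perm.mul_apply, ← map_mul, ← map_mul,
          show x * x * x = x ^ 3 by rw [pow_succ, sq], hx3, map_one, Perm.one_apply]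
      have hbig : ∀ k : Fin 10, ¬ (k : ℕ) < 8 → π x k = 8 ∨ π x k = 9 := fun k hk => cases89 fun h => by
        refine moved hc hτ hτ2 hτ1 hτz h ?_
        rw [← Perm.mul_apply, ← hcm.eq, Perm.mul_apply, mem_fix8.1 hτ k (not_lt.1 hk)]
      have h89 : π x 8 = 8 ∧ π x 9 = 9 := by
        rcases hbig 8 (by decide) with a | a <;> rcases hbig 9 (by decide) with b | b
        · exact absurd ((π x).injective (a.trans b.symm)) (by decide)
        · exact ⟨a, b⟩
        · have := hP3 8
          rw [a, b, a] at this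
          exact absurd this (by decide)
        · exact absurd ((π x).injective (a.trans b.symm)) (by decide)
      have hxmem : x ∈ fix8 π := mem_fix8.2 fun k hk => by
        rcases cases89 (not_lt.2 hk) with rfl | rfl
        exacts [h89.1, h89.2]
      obtain ⟨b, hb⟩ := hfsurj x hxmem
      have hφb : φ b = X := congrArg Subtype.val hb
      exact ⟨b, hφ (by rw [map_mul, map_mul, hφb, hφτ]; exact hxτ.eq), hφb.symm⟩
    | one => exact ⟨1, by rw [one_mul, mul_one], maps_one⟩
    | mul a b _ _ ha hb =>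
      obtain ⟨a', ha1, ha2⟩ := ha
      obtain ⟨b', hb1, hb2⟩ := hb
      exact ⟨a' * b', by rw [mul_assoc, hb1, ← mul_assoc, ha1, mul_assoc], ha2.mul hb2⟩
    | inv a _ ha =>
      obtain ⟨a', ha1, ha2⟩ := ha
      refine ⟨a'⁻¹, ((show Commute a' tau from ha1).inv_left).eq, ?_⟩
      show _ = φ a'⁻¹
      rw [map_inv, map_inv, ← ha2]
      group
  obtain ⟨c, hcc⟩ := exists_c hφ hnorm m1 m2
  obtain ⟨a13, a35⟩ := al_values
  have cz : c * z * c⁻¹ = z * τ := by
    have h := hcc 13 (by norm_num)
    rw [a13, ← te_eq, hte, show eV 13 = tC from rfl, hφz] at h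
    exact mul_inv_eq_iff_eq_mul.2 h
  have cτ : c * τ * c⁻¹ = z := by
    have h := hcc 35 (by norm_num)
    rw [a35, show eV 13 = tC from rfl, show eV 35 = tau from rfl, hφz, hφτ] at h
    exact mul_inv_eq_iff_eq_mul.2 h
  refine ⟨c, fun y hy1 hy2 => ?_, fun d hd hdτ => ?_, ?_⟩
  · have d1 : Commute (c * y * c⁻¹) (z * τ) := by rw [← cz]; exact hy1.conj _
    have d2 : Commute (c * y * c⁻¹) z := by rw [← cτ]; exact hy2.conj _
    refine ⟨d2, ?_⟩
    have := d2.inv_right.mul_right d1
    rwa [inv_mul_cancel_left] at this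
  · obtain ⟨a, rfl⟩ := hfsurj d hd
    have ha : a * tau = tau * a := hφ (by rw [map_mul, map_mul, hφτ]; exact hdτ.eq)
    obtain ⟨v, hv, rfl⟩ := exists_eV ha
    exact ⟨f (eV (alN v)), hf8 _, (mul_inv_eq_iff_eq_mul.2 (hcc v hv)).symm⟩
  · rw [← hrange]
    refine closure_equiv φ hφ c hcc fun i hi y hy => ?_
    obtain ⟨-, e1, -, -⟩ := eE_small hi
    have hyz := hy 1 (by norm_num)
    rw [e1, hφz] at hyz
    set y' : centralizer ({z} : Set G) := ⟨y, mem_centralizer_singleton_iff.2 hyz⟩
    rw [hrange]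
    exact ⟨y', cent_sixteen hc hfinj hf8 hfz hi fun j hj => Subtype.ext (hy j hj), rfl⟩

end Cfsg.Agent.AltDouble.TenSub
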